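import Cfsg.Agent.SLThree.Hessian.Normal
import Cfsg.Agent.S0205
import Cfsg.Agent.S0215
import Mathlib.LinearAlgebra.Matrix.GeneralLinearGroup.Projective

/-!
# An isolated central involution

If no other involution commutes with the central involution, Glauberman's theorem gives a soluble normal
subgroup containing the Heisenberg group; its last non-scalar derived term is the Heisenberg group up to
scalars, so the group normalises the Heisenberg group.
-/

set_option autoImplicit false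
set_option linter.unusedSectionVars false

namespace CfsgLib.SLThree.Hessian

open Matrix Cfsg.Geo CfsgLib.MaxSub

/-! ### Quasi-commuting elements -/

theorem pow_swap {F A : Type*} [CommSemiring F] [Semiring A] [Algebra F A] {X Y : A} {l : F}
    (h : X * Y = l • (Y * X)) : ∀ n m : ℕ, X ^ n * Y ^ m = l ^ (n * m) • (Y ^ m * X ^ n) := by
  have h1 : ∀ m : ℕ, X * Y ^ m = l ^ m • (Y ^ m * X) := by
    intro m
    induction m with
    | zero => simp
    | succ m ih =>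
      rw [pow_succ, ← mul_assoc, ih, smul_mul_assoc, mul_assoc, h, mul_smul_comm, smul_smul, ← pow_succ,
        mul_assoc]
  intro n m
  induction n with
  | zero => simp
  | succ n ih =>
    rw [pow_succ', mul_assoc, ih, mul_smul_comm, ← mul_assoc, h1, smul_mul_assoc, smul_smul, mul_assoc, ← pow_add,
      Nat.succ_mul]

/-- A map of order three on a commutative group of exponent three fixes a non-trivial element. -/
theorem exists_fixed_of_cube {Q : Type*} [Group Q] (H : Subgroup Q) (hcomm : ∀ a ∈ H, ∀ b ∈ H, a * b = b * a)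
    (hexp : ∀ a ∈ H, a ^ 3 = 1) (T : Q →* Q) (hT : ∀ a ∈ H, T a ∈ H) (hT3 : ∀ a ∈ H, T (T (T a)) = a)
    {a : Q} (ha : a ∈ H) (ha1 : a ≠ 1) : ∃ y ∈ H, y ≠ 1 ∧ T y = y := by
  set b := T a with hb'
  set c := T b with hc'
  have hb : b ∈ H := hT a ha
  have hc : c ∈ H := hT b hb
  have hca : T c = a := hT3 a ha
  by_cases h2 : c * b * a = 1
  · have hce : c = a⁻¹ * b⁻¹ := by
      rw [← _root_.mul_inv_rev, eq_inv_iff_mul_eq_one, ← mul_assoc, h2]
    by_cases h1 : b * a⁻¹ = 1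
    · exact ⟨a, ha, ha1, mul_inv_eq_one.1 h1⟩
    · refine ⟨b * a⁻¹, H.mul_mem hb (H.inv_mem ha), h1, ?_⟩
      rw [map_mul, map_inv, ← hb', ← hc', hce]
      have hbb : b⁻¹ * b⁻¹ = b := by
        rw [← _root_.mul_inv_rev, inv_eq_iff_mul_eq_one, ← pow_two, ← pow_succ, hexp b hb]
      rw [mul_assoc, hbb]
      exact (hcomm _ hb _ (H.inv_mem ha)).symm
  · refine ⟨c * b * a, H.mul_mem (H.mul_mem hc hb) ha, h2, ?_⟩
    rw [map_mul, map_mul, hca, ← hb', ← hc']
    calc a * c * b = a * (c * b) := mul_assoc _ _ _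
      _ = c * b * a := hcomm _ ha _ (H.mul_mem hc hb)

variable {F : Type*} [Field F] (o : Omega F)

theorem Omega.pow_inj {a b : ℕ} (hab : o.w ^ a = o.w ^ b) : a % 3 = b % 3 := by
  rw [pow_eq_pow_mod a o.cube, pow_eq_pow_mod b o.cube] at hab
  have h1' := o.ne_one
  have h0' := o.ne_zero
  have hsum' := o.sum
  have ha : a % 3 < 3 := Nat.mod_lt _ (by norm_num)
  have hb : b % 3 < 3 := Nat.mod_lt _ (by norm_num)
  generalize a % 3 = a' at ha hab ⊢
  generalize b % 3 = b' at hb hab ⊢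
  interval_cases a' <;> interval_cases b' <;> first | rfl | (exfalso; grind)

theorem shift_mul_clock : (shift F : Matrix (Fin 3) (Fin 3) F) * (clock o : Matrix (Fin 3) (Fin 3) F) =
    o.w ^ 2 • ((clock o : Matrix (Fin 3) (Fin 3) F) * (shift F : Matrix (Fin 3) (Fin 3) F)) := by
  have := o.cube
  show (!![0, 0, 1; 1, 0, 0; 0, 1, 0] : Matrix (Fin 3) (Fin 3) F) * !![1, 0, 0; 0, o.w, 0; 0, 0, o.w ^ 2] =
    o.w ^ 2 • (!![1, 0, 0; 0, o.w, 0; 0, 0, o.w ^ 2] * !![0, 0, 1; 1, 0, 0; 0, 1, 0])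
  ext a b; fin_cases a <;> fin_cases b <;> simp [Matrix.mul_apply, Fin.sum_univ_three] <;> grind

theorem clock_pow_three : clock o ^ 3 = 1 := by simpa using cube_mo o 1 0

include o in
theorem shift_pow_three : shift F ^ 3 = 1 := by simpa using cube_mo o 0 1

include o in
theorem shift_inv : (shift F)⁻¹ = shift F ^ 2 :=
  inv_eq_of_mul_eq_one_right (by rw [← pow_succ', shift_pow_three o])

theorem cent_conj_clock : cent * clock o * cent = (clock o)⁻¹ := by
  apply Units.ext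
  rw [Units.val_mul, Units.val_mul]
  show (!![-1, 0, 0; 0, 0, -1; 0, -1, 0] : Matrix (Fin 3) (Fin 3) F) * !![1, 0, 0; 0, o.w, 0; 0, 0, o.w ^ 2] *
    !![-1, 0, 0; 0, 0, -1; 0, -1, 0] = !![1, 0, 0; 0, o.w ^ 2, 0; 0, 0, o.w]
  ext i j; fin_cases i <;> fin_cases j <;> simp [Matrix.mul_apply, Fin.sum_univ_three]

theorem cent_conj_shift : cent * shift F * cent = (shift F)⁻¹ := by
  apply Units.ext
  rw [Units.val_mul, Units.val_mul]
  show (!![-1, 0, 0; 0, 0, -1; 0, -1, 0] : Matrix (Fin 3) (Fin 3) F) * !![0, 0, 1; 1, 0, 0; 0, 1, 0] *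
    !![-1, 0, 0; 0, 0, -1; 0, -1, 0] = !![0, 1, 0; 0, 0, 1; 1, 0, 0]
  ext i j; fin_cases i <;> fin_cases j <;> simp [Matrix.mul_apply, Fin.sum_univ_three]

/-- Conjugate of a monomial by the Fourier matrix. -/
theorem four_conj_mo (i j : ℕ) :
    four o * (clock o ^ i * shift F ^ j) * (four o)⁻¹ = (shift F ^ 2) ^ i * clock o ^ j := by
  rw [show four o * (clock o ^ i * shift F ^ j) * (four o)⁻¹ =
      (four o * clock o ^ i * (four o)⁻¹) * (four o * shift F ^ j * (four o)⁻¹) by group,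
    ← conj_pow, ← conj_pow, conj_four_clock, conj_four_shift, shift_inv o]

/-- A monomial and its Fourier conjugate do not commute. -/
theorem not_commute (i j : Fin 3) (h : ¬ (i = 0 ∧ j = 0)) :
    ((clock o ^ (i : ℕ) * shift F ^ (j : ℕ) : GL (Fin 3) F) : Matrix (Fin 3) (Fin 3) F) *
      (((shift F ^ 2) ^ (i : ℕ) * clock o ^ (j : ℕ) : GL (Fin 3) F) : Matrix (Fin 3) (Fin 3) F) ≠
    (((shift F ^ 2) ^ (i : ℕ) * clock o ^ (j : ℕ) : GL (Fin 3) F) : Matrix (Fin 3) (Fin 3) F) *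
      ((clock o ^ (i : ℕ) * shift F ^ (j : ℕ) : GL (Fin 3) F) : Matrix (Fin 3) (Fin 3) F) := by
  intro e
  have hne : ∀ a b : ℕ, (clock o : Matrix (Fin 3) (Fin 3) F) ^ a * (shift F : Matrix (Fin 3) (Fin 3) F) ^ b ≠ 0 :=
    fun a b => by
      rw [← Units.val_pow_eq_pow_val, ← Units.val_pow_eq_pow_val, ← Units.val_mul]
      exact Units.ne_zero _
  simp only [Units.val_mul, Units.val_pow_eq_pow_val] at e
  have hsw := pow_swap (shift_mul_clock o)
  set C := (clock o : Matrix (Fin 3) (Fin 3) F)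
  set S := (shift F : Matrix (Fin 3) (Fin 3) F)
  rw [← pow_mul] at e
  rw [show C ^ (i : ℕ) * S ^ (j : ℕ) * (S ^ (2 * (i : ℕ)) * C ^ (j : ℕ)) =
        C ^ (i : ℕ) * (S ^ ((j : ℕ) + 2 * i) * C ^ (j : ℕ)) by rw [pow_add]; simp only [mul_assoc],
    show S ^ (2 * (i : ℕ)) * C ^ (j : ℕ) * (C ^ (i : ℕ) * S ^ (j : ℕ)) =
        S ^ (2 * (i : ℕ)) * C ^ ((i : ℕ) + j) * S ^ (j : ℕ) by rw [add_comm (i : ℕ), pow_add]; simp only [mul_assoc],
    hsw, hsw, mul_smul_comm, smul_mul_assoc, ← mul_assoc, ← pow_add, mul_assoc (C ^ _) (S ^ _), ← pow_add,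
    add_comm (2 * (i : ℕ)) (j : ℕ)] at e
  have h1 := smul_left_injective F (hne _ _) e
  rw [← pow_mul, ← pow_mul] at h1
  have h2 := o.pow_inj h1
  exact h ((show ∀ i j : Fin 3, (2 * (((j : ℕ) + 2 * i) * j)) % 3 = (2 * (2 * (i : ℕ) * (i + (j : ℕ)))) % 3 →
    i = 0 ∧ j = 0 by decide) i j h2)

theorem conj_eq_of_smul {g h : GL (Fin 3) F} {c : F}
    (e : (g : Matrix (Fin 3) (Fin 3) F) = c • (h : Matrix (Fin 3) (Fin 3) F)) (X : Matrix (Fin 3) (Fin 3) F) :
    g.1 * X * (g⁻¹ : GL (Fin 3) F).1 = h.1 * X * (h⁻¹ : GL (Fin 3) F).1 := by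
  have hc : c ≠ 0 := fun h0 => g.ne_zero (by rw [e, h0, zero_smul])
  have hi : (g⁻¹ : GL (Fin 3) F).1 = c⁻¹ • (h⁻¹ : GL (Fin 3) F).1 :=
    Units.inv_eq_of_mul_eq_one_right (by
      rw [e, smul_mul_assoc, mul_smul_comm, Units.mul_inv, smul_smul, mul_inv_cancel₀ hc, one_smul])
  rw [e, hi, smul_mul_assoc, smul_mul_assoc, mul_smul_comm, smul_smul, mul_inv_cancel₀ hc, one_smul]

/-! ### Abelian normalised subgroups -/

include o in
/-- A conjugation of order three has a non-scalar eigenvector in each stable space which is not scalar. -/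
theorem exists_component {g : GL (Fin 3) F} (hg : g ^ 3 = 1) (S : Submodule F (Matrix (Fin 3) (Fin 3) F))
    (hS : ∀ X ∈ S, g.1 * X * (g⁻¹ : GL (Fin 3) F).1 ∈ S) {X : Matrix (Fin 3) (Fin 3) F} (hX : X ∈ S)
    (hns : ¬ ∃ c : F, X = c • 1) :
    ∃ (Y : Matrix (Fin 3) (Fin 3) F) (l : F), Y ∈ S ∧ (¬ ∃ c : F, Y = c • 1) ∧ g.1 * Y * (g⁻¹ : GL (Fin 3) F).1 = l • Y := by
  set T : Matrix (Fin 3) (Fin 3) F → Matrix (Fin 3) (Fin 3) F := fun Z => g.1 * Z * (g⁻¹ : GL (Fin 3) F).1 with hT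
  have hT3 : T (T (T X)) = X := by
    have h1 : g.1 * (g.1 * g.1) = 1 := by rw [← Units.val_mul, ← Units.val_mul, ← pow_two, ← pow_succ', hg, Units.val_one]
    have h2 : (g⁻¹ : GL (Fin 3) F).1 * ((g⁻¹ : GL (Fin 3) F).1 * (g⁻¹ : GL (Fin 3) F).1) = 1 := by
      rw [← Units.val_mul, ← Units.val_mul, ← pow_two, ← pow_succ', inv_pow, hg, inv_one, Units.val_one]
    calc T (T (T X)) = (g.1 * (g.1 * g.1)) * X *
          ((g⁻¹ : GL (Fin 3) F).1 * ((g⁻¹ : GL (Fin 3) F).1 * (g⁻¹ : GL (Fin 3) F).1)) := by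
          simp only [hT, mul_assoc]
      _ = X := by rw [h1, h2, one_mul, mul_one]
  set Y : ℕ → Matrix (Fin 3) (Fin 3) F := fun k => X + o.w ^ k • T X + o.w ^ (2 * k) • T (T X) with hY
  have hmem : ∀ k, Y k ∈ S := fun k =>
    S.add_mem (S.add_mem hX (S.smul_mem _ (hS _ hX))) (S.smul_mem _ (hS _ (hS _ hX)))
  have heig : ∀ k, T (Y k) = o.w ^ (2 * k) • Y k := fun k => by
    have hadd : ∀ A B, T (A + B) = T A + T B := fun A B => by simp only [hT, mul_add, add_mul]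
    have hsmul : ∀ (a : F) A, T (a • A) = a • T A := fun a A => by simp only [hT, mul_smul_comm, smul_mul_assoc]
    have h3 : o.w ^ (3 * k) = 1 := by rw [pow_mul, o.cube, one_pow]
    simp only [hY, hadd, hsmul, hT3, smul_add, smul_smul, ← pow_add]
    rw [show 2 * k + k = 3 * k by ring, h3, one_smul, show 2 * k + 2 * k = 3 * k + k by ring, pow_add, h3, one_mul]
    abel
  by_contra hn
  push Not at hn
  have hk : ∀ k, ∃ c : F, Y k = c • 1 := fun k => by
    by_contra h0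
    push Not at h0
    exact hn (Y k) (o.w ^ (2 * k)) (hmem k) h0 (heig k)
  obtain ⟨c0, e0⟩ := hk 0
  obtain ⟨c1, e1⟩ := hk 1
  obtain ⟨c2, e2⟩ := hk 2
  refine hns ⟨(c0 + c1 + c2) / 3, ?_⟩
  have hsum : Y 0 + Y 1 + Y 2 = (3 : F) • X := by
    simp only [hY]
    ext a b
    simp only [Matrix.add_apply, Matrix.smul_apply, smul_eq_mul]
    linear_combination (T X a b) * o.sum + (T (T X) a b) * o.sum + (T (T X) a b) * o.w * o.cube
  rw [e0, e1, e2, ← add_smul, ← add_smul] at hsum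
  rw [div_eq_inv_mul, ← smul_smul, hsum, inv_smul_smul₀ o.three]

/-- An abelian subgroup normalised by clock, shift and the Fourier matrix is scalar. -/
theorem scalar_of_abelian {A : Subgroup (GL (Fin 3) F)} (hab : ∀ a ∈ A, ∀ b ∈ A, a * b = b * a)
    (hc : ∀ a ∈ A, clock o * a * (clock o)⁻¹ ∈ A) (hs : ∀ a ∈ A, shift F * a * (shift F)⁻¹ ∈ A)
    (hf : ∀ a ∈ A, four o * a * (four o)⁻¹ ∈ A) {a : GL (Fin 3) F} (ha : a ∈ A) :
    ∃ c : F, (a : Matrix (Fin 3) (Fin 3) F) = c • 1 := by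
  set G : Set (Matrix (Fin 3) (Fin 3) F) := {X | ∃ b ∈ A, X = (b : Matrix (Fin 3) (Fin 3) F)} with hG
  set S := Submodule.span F G with hS
  have hstab : ∀ g : GL (Fin 3) F, (∀ b ∈ A, g * b * g⁻¹ ∈ A) → ∀ X ∈ S, g.1 * X * (g⁻¹ : GL (Fin 3) F).1 ∈ S := by
    intro g hg X hX
    induction hX using Submodule.span_induction with
    | mem Z hZ =>
      obtain ⟨b, hb, rfl⟩ := hZ
      exact Submodule.subset_span ⟨_, hg b hb, by rw [Units.val_mul, Units.val_mul]⟩
    | zero => simp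
    | add Z W _ _ hZ hW => rw [mul_add, add_mul]; exact S.add_mem hZ hW
    | smul r Z _ hZ => rw [mul_smul_comm, smul_mul_assoc]; exact S.smul_mem _ hZ
  have hcomm : ∀ X ∈ S, ∀ Y ∈ S, Commute X Y := by
    intro X hX
    induction hX using Submodule.span_induction with
    | mem Z hZ =>
      intro Y hY
      obtain ⟨b, hb, rfl⟩ := hZ
      induction hY using Submodule.span_induction with
      | mem V hV =>
        obtain ⟨d, hd, rfl⟩ := hV
        exact congrArg Units.val (hab b hb d hd)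
      | zero => exact Commute.zero_right _
      | add V W _ _ hV hW => exact hV.add_right hW
      | smul r V _ hV => exact hV.smul_right r
    | zero => exact fun Y _ => Commute.zero_left _
    | add Z W _ _ hZ hW => exact fun Y hY => (hZ Y hY).add_left (hW Y hY)
    | smul r Z _ hZ => exact fun Y hY => (hZ Y hY).smul_left r
  by_contra hns
  obtain ⟨Y, l, hY, hYns, hYl⟩ := exists_component o (clock_pow_three o) S (hstab _ hc)
    (Submodule.subset_span ⟨a, ha, rfl⟩) hns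
  let S' : Submodule F (Matrix (Fin 3) (Fin 3) F) :=
    { carrier := {X | X ∈ S ∧ (clock o).1 * X * ((clock o)⁻¹ : GL (Fin 3) F).1 = l • X}
      add_mem' := fun {X Z} hX hZ => ⟨S.add_mem hX.1 hZ.1, by rw [mul_add, add_mul, hX.2, hZ.2, smul_add]⟩
      zero_mem' := ⟨S.zero_mem, by simp⟩
      smul_mem' := fun r X hX => ⟨S.smul_mem r hX.1, by
        rw [mul_smul_comm, smul_mul_assoc, hX.2, smul_comm]⟩ }
  have hswap : ∀ X, (clock o).1 * ((shift F).1 * X * ((shift F)⁻¹ : GL (Fin 3) F).1) * ((clock o)⁻¹ : GL (Fin 3) F).1 =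
      (shift F).1 * ((clock o).1 * X * ((clock o)⁻¹ : GL (Fin 3) F).1) * ((shift F)⁻¹ : GL (Fin 3) F).1 := fun X => by
    have e : ((shift F * clock o : GL (Fin 3) F) : Matrix (Fin 3) (Fin 3) F) =
        o.w ^ 2 • ((clock o * shift F : GL (Fin 3) F) : Matrix (Fin 3) (Fin 3) F) := by
      rw [Units.val_mul, Units.val_mul, shift_mul_clock]
    have := conj_eq_of_smul e X
    simp only [_root_.mul_inv_rev, Units.val_mul, mul_assoc] at this ⊢
    exact this.symm
  obtain ⟨Z, m, hZ, hZns, hZm⟩ := exists_component o (shift_pow_three o) S'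
    (fun X hX => ⟨hstab _ hs X hX.1, by rw [hswap, hX.2, mul_smul_comm, smul_mul_assoc]⟩) ⟨hY, hYl⟩ hYns
  have hrew : ∀ (g : GL (Fin 3) F) (k : F), g.1 * Z * (g⁻¹ : GL (Fin 3) F).1 = k • Z → g.1 * Z = k • (Z * g.1) :=
    fun g k h => by rw [← smul_mul_assoc, ← h, Units.inv_mul_cancel_right]
  obtain ⟨k, i, j, hmo⟩ := mo_of_eig o ⟨⟨l, hrew _ _ hZ.2⟩, m, hrew _ _ hZm⟩
    (fun h0 => hZns ⟨0, by rw [h0, zero_smul]⟩)
  have hk : k ≠ 0 := fun h0 => hZns ⟨0, by rw [hmo, h0, zero_smul, zero_smul]⟩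
  have hij : ¬ (i = 0 ∧ j = 0) := by
    rintro ⟨rfl, rfl⟩
    exact hZns ⟨k, by rw [hmo]; simp⟩
  have hW : ((clock o ^ (i : ℕ) * shift F ^ (j : ℕ) : GL (Fin 3) F) : Matrix (Fin 3) (Fin 3) F) ∈ S := by
    have := S.smul_mem k⁻¹ hZ.1
    rwa [hmo, inv_smul_smul₀ hk] at this
  have hW' := hstab _ hf _ hW
  rw [← Units.val_mul, ← Units.val_mul, four_conj_mo] at hW'
  exact not_commute o i j hij (hcomm _ hW _ hW')

/-! ### Modulo scalars -/

/-- The projective image. -/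
def pr : GL (Fin 3) F →* GL (Fin 3) F ⧸ Subgroup.center (GL (Fin 3) F) := QuotientGroup.mk' _

theorem pr_eq_one {g : GL (Fin 3) F} :
    pr g = 1 ↔ ∃ c : F, (g : Matrix (Fin 3) (Fin 3) F) = c • 1 := by
  rw [pr, QuotientGroup.mk'_apply, QuotientGroup.eq_one_iff,
    Matrix.GeneralLinearGroup.mem_center_iff_val_mem_range_scalar, Set.mem_range]
  simp only [Matrix.scalar_apply, Matrix.smul_one_eq_diagonal, eq_comm]

theorem pr_eq {g h : GL (Fin 3) F} :
    pr g = pr h ↔ ∃ c : F, (g : Matrix (Fin 3) (Fin 3) F) = c • (h : Matrix (Fin 3) (Fin 3) F) := by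
  rw [← mul_inv_eq_one, ← map_inv, ← map_mul, pr_eq_one]
  refine exists_congr fun c => ⟨fun e => ?_, fun e => ?_⟩
  · rw [Units.val_mul] at e
    rw [← Units.inv_mul_cancel_right (g : Matrix (Fin 3) (Fin 3) F) h, e, smul_mul_assoc, one_mul]
  · rw [Units.val_mul, e, smul_mul_assoc, Units.mul_inv]

theorem pr_clock_shift : Commute (pr (clock o)) (pr (shift F)) := by
  show pr (clock o) * pr (shift F) = pr (shift F) * pr (clock o)
  rw [← map_mul, ← map_mul]
  exact (pr_eq.2 ⟨_, by rw [Units.val_mul, Units.val_mul]; exact shift_mul_clock o⟩).symm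

/-- A monomial and its Fourier conjugate generate modulo scalars. -/
theorem clock_shift_mem {H : Subgroup (GL (Fin 3) F ⧸ Subgroup.center (GL (Fin 3) F))} (i j : Fin 3)
    (hij : ¬ (i = 0 ∧ j = 0)) (h1 : pr (clock o ^ (i : ℕ) * shift F ^ (j : ℕ)) ∈ H)
    (h2 : pr ((shift F ^ 2) ^ (i : ℕ) * clock o ^ (j : ℕ)) ∈ H) : pr (clock o) ∈ H ∧ pr (shift F) ∈ H := by
  simp only [map_mul, map_pow] at h1 h2
  set C := pr (clock o) with hC'
  set S := pr (shift F) with hS'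
  have hC : C ^ 3 = 1 := by rw [hC', ← map_pow, clock_pow_three o, map_one]
  have hS : S ^ 3 = 1 := by rw [hS', ← map_pow, shift_pow_three o, map_one]
  have hCS : ∀ a b : ℕ, Commute (C ^ a) (S ^ b) := fun a b => (pr_clock_shift o).pow_pow a b
  rw [← pow_mul] at h2
  have hn : ∀ i j : Fin 3, ¬ (i = 0 ∧ j = 0) →
      (((i : ℕ) * i + j * j) * ((i : ℕ) * i + j * j)) % 3 = 1 ∧
      (((j : ℕ) * j + 2 * i * (2 * i)) * ((j : ℕ) * j + 2 * i * (2 * i))) % 3 = 1 := by decide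
  obtain ⟨n1, n2⟩ := hn i j hij
  constructor
  · have h := H.mul_mem (H.pow_mem h1 (i : ℕ)) (H.pow_mem h2 (j : ℕ))
    rw [(hCS _ _).mul_pow, (hCS _ _).symm.mul_pow, ← pow_mul, ← pow_mul, ← pow_mul, ← pow_mul, mul_assoc,
      ← mul_assoc (S ^ _) (S ^ _), ← pow_add, show (j : ℕ) * i + 2 * i * j = 3 * (i * j) by ring, pow_mul S 3, hS,
      one_pow, one_mul, ← pow_add] at h
    have h' := H.pow_mem h ((i : ℕ) * i + j * j)
    rwa [← pow_mul, pow_eq_pow_mod _ hC, n1, pow_one] at h'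
  · have h := H.mul_mem (H.pow_mem h1 (j : ℕ)) (H.pow_mem h2 (2 * (i : ℕ)))
    rw [(hCS _ _).mul_pow, (hCS _ _).symm.mul_pow, ← pow_mul, ← pow_mul, ← pow_mul, ← pow_mul,
      mul_assoc (C ^ _), ← mul_assoc (S ^ _) (S ^ _), ← pow_add, ← (hCS _ _).eq, ← mul_assoc, ← pow_add,
      show (i : ℕ) * j + j * (2 * i) = 3 * (i * j) by ring, pow_mul C 3, hC, one_pow, one_mul] at h
    have h' := H.pow_mem h ((j : ℕ) * j + 2 * i * (2 * i))
    rwa [← pow_mul, pow_eq_pow_mod _ hS, n2, pow_one] at h'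

theorem eig_of_pr {x : GL (Fin 3) F} (hc : pr (clock o) * pr x = pr x * pr (clock o))
    (hs : pr (shift F) * pr x = pr x * pr (shift F)) : Eig o (x : Matrix (Fin 3) (Fin 3) F) := by
  rw [← map_mul, ← map_mul, pr_eq] at hc hs
  simp only [Units.val_mul] at hc hs
  exact ⟨hc, hs⟩

/-! ### The conclusion -/

/-- A group normalising a soluble group containing clock and shift normalises the Heisenberg group. -/
theorem le_normalizer_of_derived [Finite F] {M D : Subgroup (GL (Fin 3) F)}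
    (hclock : clock o ∈ M) (hshift : shift F ∈ M) (hfour : four o ∈ M)
    (hD : ∀ g ∈ M, ∀ x ∈ D, g * x * g⁻¹ ∈ D) {x₀ : GL (Fin 3) F} (hx₀ : x₀ ∈ D)
    (hns : pr x₀ ≠ 1) (hcomm : ∀ x ∈ D, ∀ y ∈ D, pr x * pr y = pr y * pr x) :
    M ≤ subgroupNormalizer (heis o) := by
  -- the centre of `D` is scalar
  have hcen : ∀ x ∈ D, (∀ y ∈ D, y * x = x * y) → pr x = 1 := by
    intro x hx hxc
    have hmem : ∀ g ∈ M, ∀ z ∈ D ⊓ Subgroup.centralizer (D : Set (GL (Fin 3) F)),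
        g * z * g⁻¹ ∈ D ⊓ Subgroup.centralizer (D : Set (GL (Fin 3) F)) := by
      intro g hg z hz
      refine ⟨hD g hg z hz.1, Subgroup.mem_centralizer_iff.2 fun y hy => ?_⟩
      have h := Subgroup.mem_centralizer_iff.1 hz.2 _ (hD g⁻¹ (M.inv_mem hg) y hy)
      rw [inv_inv] at h
      calc y * (g * z * g⁻¹) = g * ((g⁻¹ * y * g) * z) * g⁻¹ := by group
        _ = g * (z * (g⁻¹ * y * g)) * g⁻¹ := by rw [h]
        _ = g * z * g⁻¹ * y := by group
    exact pr_eq_one.2 (scalar_of_abelian o (A := D ⊓ Subgroup.centralizer (D : Set (GL (Fin 3) F)))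
      (fun a ha b hb => Subgroup.mem_centralizer_iff.1 hb.2 _ ha.1) (hmem _ hclock) (hmem _ hshift) (hmem _ hfour)
      ⟨hx, Subgroup.mem_centralizer_iff.2 hxc⟩)
  -- exponent three modulo scalars
  have hexp : ∀ x ∈ D, pr x ^ 3 = 1 := by
    intro x hx
    rw [← map_pow]
    refine hcen _ (D.pow_mem hx 3) fun y hy => ?_
    obtain ⟨l, hl⟩ := pr_eq.1 (show pr (x * y) = pr (y * x) by rw [map_mul, map_mul, hcomm x hx y hy])
    have hl3 : l ^ 3 = 1 := by
      have h := congrArg Matrix.det hl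
      rw [det_smul, Units.val_mul, Units.val_mul, det_mul, det_mul, Fintype.card_fin] at h
      exact mul_right_cancel₀ (mul_ne_zero ((Matrix.isUnit_iff_isUnit_det _).1 y.isUnit).ne_zero
        ((Matrix.isUnit_iff_isUnit_det _).1 x.isUnit).ne_zero) (by linear_combination -h)
    rw [Units.val_mul, Units.val_mul] at hl
    have h := pow_swap hl 3 1
    rw [pow_one, mul_one, hl3, one_smul] at h
    exact (Units.ext (by simpa only [Units.val_mul, Units.val_pow_eq_pow_val] using h)).symm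
  set Q := D.map (pr (F := F)) with hQ'
  have hQc : ∀ a ∈ Q, ∀ b ∈ Q, a * b = b * a := by
    rintro _ ⟨x, hx, rfl⟩ _ ⟨y, hy, rfl⟩
    exact hcomm x hx y hy
  have hQe : ∀ a ∈ Q, a ^ 3 = 1 := by rintro _ ⟨x, hx, rfl⟩; exact hexp x hx
  have hQn : ∀ g ∈ M, ∀ a ∈ Q, MulAut.conj (pr g) a ∈ Q := by
    rintro g hg _ ⟨x, hx, rfl⟩
    exact ⟨g * x * g⁻¹, hD g hg x hx, by rw [map_mul, map_mul, map_inv, MulAut.conj_apply]⟩
  have h3 : ∀ (g : GL (Fin 3) F), g ^ 3 = 1 → ∀ a, MulAut.conj (pr g) (MulAut.conj (pr g) (MulAut.conj (pr g) a)) = a := by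
    intro g hg a
    have hp : pr g ^ 3 = 1 := by rw [← map_pow, hg, map_one]
    rw [show MulAut.conj (pr g) (MulAut.conj (pr g) (MulAut.conj (pr g) a)) = (MulAut.conj (pr g) ^ 3) a from rfl,
      ← map_pow, hp, map_one, MulAut.one_apply]
  obtain ⟨b, hb, hb1, hbc⟩ := exists_fixed_of_cube Q hQc hQe (MulAut.conj (pr (clock o))).toMonoidHom (hQn _ hclock)
    (fun a _ => h3 _ (clock_pow_three o) a) ⟨x₀, hx₀, rfl⟩ hns
  set Q' := Q ⊓ Subgroup.centralizer {pr (clock o)}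
  have hbQ' : b ∈ Q' := ⟨hb, Subgroup.mem_centralizer_singleton_iff.2 (mul_inv_eq_iff_eq_mul.1 hbc).symm⟩
  obtain ⟨d, hd, hd1, hds⟩ := exists_fixed_of_cube Q' (fun a ha c hc => hQc a ha.1 c hc.1) (fun a ha => hQe a ha.1)
    (MulAut.conj (pr (shift F))).toMonoidHom
    (fun a ha => ⟨hQn _ hshift a ha.1, by
      show pr (shift F) * a * (pr (shift F))⁻¹ ∈ Subgroup.centralizer {pr (clock o)}
      have hS : pr (shift F) ∈ Subgroup.centralizer {pr (clock o)} :=
        Subgroup.mem_centralizer_singleton_iff.2 (pr_clock_shift o).eq.symm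
      exact Subgroup.mul_mem _ (Subgroup.mul_mem _ hS ha.2) (Subgroup.inv_mem _ hS)⟩)
    (fun a _ => h3 _ (shift_pow_three o) a) hbQ' hb1
  obtain ⟨⟨y, hy, rfl⟩, hdc⟩ := hd
  obtain ⟨k, i, j, hmo⟩ := mo_of_eig o (eig_of_pr o (Subgroup.mem_centralizer_singleton_iff.1 hdc).symm
    (mul_inv_eq_iff_eq_mul.1 hds)) y.ne_zero
  have hyW : pr y = pr (clock o ^ (i : ℕ) * shift F ^ (j : ℕ)) := pr_eq.2 ⟨k, hmo⟩
  have hij : ¬ (i = 0 ∧ j = 0) := by
    rintro ⟨rfl, rfl⟩
    exact hd1 (by rw [hyW]; simp)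
  have hW : pr (clock o ^ (i : ℕ) * shift F ^ (j : ℕ)) ∈ Q := hyW ▸ ⟨y, hy, rfl⟩
  have hW' : pr ((shift F ^ 2) ^ (i : ℕ) * clock o ^ (j : ℕ)) ∈ Q := by
    rw [← four_conj_mo, map_mul, map_mul, map_inv]
    exact hQn _ hfour _ hW
  obtain ⟨hC, hS⟩ := clock_shift_mem o i j hij hW hW'
  -- all of `D` is monomial
  have hmoD : ∀ x ∈ D, Mo o (x : Matrix (Fin 3) (Fin 3) F) := fun x hx =>
    mo_of_eig o (eig_of_pr o (hQc _ hC _ ⟨x, hx, rfl⟩) (hQc _ hS _ ⟨x, hx, rfl⟩)) x.ne_zero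
  intro g hg
  have key : ∀ u : GL (Fin 3) F, u ^ 3 = 1 → pr u ∈ Q → g * u * g⁻¹ ∈ heis o := by
    intro u hu huQ
    obtain ⟨x, hx, hxu⟩ := huQ
    obtain ⟨c, i', j', he⟩ := hmoD _ (hD g hg x hx)
    obtain ⟨e, hec⟩ := pr_eq.1 (show pr (g * u * g⁻¹) = pr (g * x * g⁻¹) by simp only [map_mul, hxu])
    exact mem_of_mo o ⟨e * c, i', j', by rw [hec, he, smul_smul]⟩ (by rw [conj_pow, hu]; group)
  exact mem_normalizer_of_gens o (key _ (clock_pow_three o) hC) (key _ (shift_pow_three o) hS)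

/-- **The isolated case.** -/
theorem le_normalizer_of_isolated [Fintype F] {M : Subgroup (GL (Fin 3) F)} (h2 : (2 : F) ≠ 0)
    (hclock : clock o ∈ M) (hshift : shift F ∈ M) (hfour : four o ∈ M)
    (hiso : ∀ r ∈ M, r * r = 1 → cent * r = r * cent → r = 1 ∨ r = cent) :
    M ≤ subgroupNormalizer (heis o) := by
  classical
  haveI : Fact (Nat.Prime 2) := ⟨Nat.prime_two⟩
  have hcent : (cent : GL (Fin 3) F) ∈ M := four_sq o ▸ M.mul_mem hfour hfour
  set u : M := ⟨cent, hcent⟩ with hu'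
  have hu2 : u ^ 2 = 1 := by rw [pow_two]; exact Subtype.ext cent_mul_self
  have hu1 : u ≠ 1 := fun h => h2 (by
    have e : (cent : GL (Fin 3) F).1 = (1 : GL (Fin 3) F).1 := congrArg (fun x : M => (x : GL (Fin 3) F).1) h
    have := congrFun (congrFun e 0) 0
    simp [cent] at this
    linear_combination -this)
  have hou : orderOf u = 2 := orderOf_eq_prime hu2 hu1
  have hiso' : ∀ t : M, t * t = 1 → u * t = t * u → t = 1 ∨ t = u := fun t ht htu =>
    (hiso t t.2 (congrArg Subtype.val ht) (congrArg Subtype.val htu)).imp Subtype.ext Subtype.ext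
  have hpz : IsPGroup 2 (Subgroup.zpowers u) := IsPGroup.of_card (n := 1) (by rw [Nat.card_zpowers, hou, pow_one])
  obtain ⟨P, hP⟩ := hpz.exists_le_sylow
  have huP : u ∈ P := hP (Subgroup.mem_zpowers u)
  -- the involution is central in the Sylow subgroup
  have hcentral : ∀ v ∈ P, v * u = u * v := by
    haveI : Nontrivial P := ⟨⟨⟨u, huP⟩, 1, fun h => hu1 (congrArg Subtype.val h)⟩⟩
    haveI := P.isPGroup'.center_nontrivial
    have hdvd : 2 ∣ Nat.card (Subgroup.center P) := by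
      obtain ⟨n, hn⟩ := IsPGroup.iff_card.1 (P.isPGroup'.to_subgroup (Subgroup.center P))
      rw [hn]
      refine dvd_pow_self 2 fun h0 => ?_
      rw [h0, pow_zero] at hn
      exact absurd hn (Finite.one_lt_card (α := Subgroup.center P)).ne'
    obtain ⟨t, ht⟩ := exists_prime_orderOf_dvd_card' 2 hdvd
    have htt : t * t = 1 := by have := pow_orderOf_eq_one t; rwa [ht, pow_two] at this
    have htu : ((t : P) : M) = u := by
      refine (hiso' _ (congrArg (fun z : Subgroup.center P => ((z : P) : M)) htt)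
        (congrArg Subtype.val (Subgroup.mem_center_iff.1 t.2 ⟨u, huP⟩))).resolve_left fun h => ?_
      rw [show t = 1 from Subtype.ext (Subtype.ext h), orderOf_one] at ht
      norm_num at ht
    intro v hv
    rw [← htu]
    exact congrArg Subtype.val (Subgroup.mem_center_iff.1 t.2 ⟨v, hv⟩)
  obtain ⟨N, hNn, hNodd, hN⟩ := Cfsg.Agent.S0215.result P u hou huP fun g hg => by
    refine (hiso' _ ?_ (hcentral _ hg).symm).resolve_left fun h => hu1 ?_
    · rw [← pow_two, conj_pow, hu2]; group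
    · exact conj_eq_one_iff.1 h
  have hui : u⁻¹ = u := inv_eq_of_mul_eq_one_right (by rw [← pow_two, hu2])
  have hin : ∀ (g : GL (Fin 3) F) (hg : g ∈ M), g ^ 3 = 1 → cent * g * cent = g⁻¹ → (⟨g, hg⟩ : M) ∈ N := by
    intro g hg hg3 hinv
    have h := hN ⟨g, hg⟩
    rw [hui] at h
    have hsq : (⟨g, hg⟩ : M) = (u * ⟨g, hg⟩ * u) * (⟨g, hg⟩ : M)⁻¹ := Subtype.ext (by
      show g = cent * g * cent * g⁻¹
      rw [hinv, ← _root_.mul_inv_rev, eq_inv_iff_mul_eq_one, ← pow_two, ← pow_succ', hg3])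
    rw [hsq]
    exact h
  haveI : Group.IsSolvable N := Cfsg.Agent.S0205.result hNodd
  set ι := M.subtype.comp N.subtype
  set Γ : ℕ → Subgroup (GL (Fin 3) F) := fun n => (derivedSeries N n).map ι with hΓ
  have hsucc : ∀ n, Γ (n + 1) = ⁅Γ n, Γ n⁆ := fun n => by
    simp only [hΓ, derivedSeries_succ, Subgroup.map_commutator]
  have hnorm : ∀ n, ∀ g ∈ M, (Γ n).map (MulAut.conj g).toMonoidHom ≤ Γ n := by
    intro n
    induction n with
    | zero =>
      rintro g hg _ ⟨_, ⟨x, -, rfl⟩, rfl⟩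
      exact ⟨⟨(⟨g, hg⟩ : M) * x * (⟨g, hg⟩ : M)⁻¹, hNn.conj_mem _ x.2 _⟩, Subgroup.mem_top _, rfl⟩
    | succ n ih =>
      intro g hg
      rw [hsucc, Subgroup.map_commutator]
      exact Subgroup.commutator_mono (ih g hg) (ih g hg)
  obtain ⟨n, hn⟩ : ∃ n, ∀ x ∈ Γ n, pr x = 1 := by
    obtain ⟨n, hn⟩ := (Group.isSolvable_def N).1 inferInstance
    refine ⟨n, fun x hx => ?_⟩
    simp only [hΓ, hn, Subgroup.map_bot, Subgroup.mem_bot] at hx
    rw [hx, map_one]
  have h0 : ¬ ∀ x ∈ Γ 0, pr x = 1 := fun h => by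
    obtain ⟨c, hc⟩ := pr_eq_one.1 (h (clock o)
      ⟨⟨⟨clock o, hclock⟩, hin _ hclock (clock_pow_three o) (cent_conj_clock o)⟩, Subgroup.mem_top _, rfl⟩)
    have e0 := congrFun (congrFun hc 0) 0
    have e1 := congrFun (congrFun hc 1) 1
    simp [clock] at e0 e1
    exact o.ne_one (e1.trans e0.symm)
  have hex : ∃ n, ∀ x ∈ Γ n, pr x = 1 := ⟨n, hn⟩
  obtain ⟨m, hm⟩ : ∃ m, Nat.find hex = m + 1 :=
    Nat.exists_eq_succ_of_ne_zero fun h => h0 (h ▸ Nat.find_spec hex)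
  have hmns := Nat.find_min hex (show m < Nat.find hex by omega)
  push Not at hmns
  obtain ⟨x₀, hx₀, hns⟩ := hmns
  refine le_normalizer_of_derived o hclock hshift hfour (D := Γ m)
    (fun g hg x hx => hnorm m g hg ⟨x, hx, rfl⟩) hx₀ hns fun x hx y hy => ?_
  have h := Nat.find_spec hex
  rw [hm, hsucc] at h
  have h' := h _ (Subgroup.commutator_mem_commutator hx hy)
  rw [map_commutatorElement] at h'
  exact commutatorElement_eq_one_iff_mul_comm.1 h'

end CfsgLib.SLThree.Hessian
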