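import Cfsg.Agent.SLThree.Hessian.Reflection
import Cfsg.Agent.SLThree.Hessian.NormalSub

/-!
# The normaliser of an extraspecial group of order 27 is maximal in `SL₃ (p)`, `p ≡ 1 (mod 3)`
-/

set_option autoImplicit false

namespace CfsgLib.SLThree.Hessian

open Matrix Cfsg.Geo CfsgLib.MaxSub

variable {F : Type*} [Field F] (o : Omega F)

theorem irreducible_heis : Irreducible (heis o) := by
  intro W hW
  refine or_iff_not_imp_left.2 fun hW0 => ?_
  obtain ⟨u, hu, hu0⟩ := Submodule.exists_mem_ne_zero_of_ne_bot hW0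
  have hC : ∀ v ∈ W, (clock o : Matrix (Fin 3) (Fin 3) F) *ᵥ v ∈ W := fun v hv => hW _ (clock_mem o) v hv
  have hS : ∀ v ∈ W, (shift F : Matrix (Fin 3) (Fin 3) F) *ᵥ v ∈ W := fun v hv => hW _ (shift_mem o) v hv
  have hCv : ∀ v : Fin 3 → F, (clock o : Matrix (Fin 3) (Fin 3) F) *ᵥ v = ![v 0, o.w * v 1, o.w ^ 2 * v 2] := fun v => by
    funext i; fin_cases i <;> simp [clock, mulVec, dotProduct, Fin.sum_univ_three]
  have hSv : ∀ v : Fin 3 → F, (shift F : Matrix (Fin 3) (Fin 3) F) *ᵥ v = ![v 2, v 0, v 1] := fun v => by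
    funext i; fin_cases i <;> simp [shift, mulVec, dotProduct, Fin.sum_univ_three]
  have hfst : ∀ v ∈ W, v 0 ≠ 0 → (Pi.single 0 1 : Fin 3 → F) ∈ W := by
    intro v hv hv0
    have h := W.smul_mem (3 * v 0)⁻¹ (W.add_mem (W.add_mem hv (hC v hv)) (hC _ (hC v hv)))
    convert h using 1
    have hsum := o.sum
    have hcube := o.cube
    have e : v + (clock o : Matrix (Fin 3) (Fin 3) F) *ᵥ v +
        (clock o : Matrix (Fin 3) (Fin 3) F) *ᵥ ((clock o : Matrix (Fin 3) (Fin 3) F) *ᵥ v) =
        (3 * v 0) • (Pi.single 0 1 : Fin 3 → F) := by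
      rw [hCv, hCv]
      funext i
      fin_cases i <;> simp [Matrix.vecHead, Matrix.vecTail] <;> grind
    rw [e, inv_smul_smul₀ (mul_ne_zero o.three hv0)]
  have h0 : (Pi.single 0 1 : Fin 3 → F) ∈ W := by
    by_cases a0 : u 0 = 0
    · by_cases a2 : u 2 = 0
      · refine hfst _ (hS _ (hS u hu)) ?_
        rw [hSv, hSv]
        intro a1
        refine hu0 (funext fun i => ?_)
        fin_cases i <;> simp_all
      · exact hfst _ (hS u hu) (by rw [hSv]; simpa using a2)
    · exact hfst u hu a0
  have h1 : (Pi.single 1 1 : Fin 3 → F) ∈ W := by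
    convert hS _ h0 using 1
    rw [hSv]
    funext i; fin_cases i <;> simp
  have h2 : (Pi.single 2 1 : Fin 3 → F) ∈ W := by
    convert hS _ h1 using 1
    rw [hSv]
    funext i; fin_cases i <;> simp
  refine eq_top_iff.2 fun v _ => ?_
  rw [show v = v 0 • (Pi.single 0 1 : Fin 3 → F) + v 1 • Pi.single 1 1 + v 2 • Pi.single 2 1 by
    funext i; fin_cases i <;> simp]
  exact W.add_mem (W.add_mem (W.smul_mem _ h0) (W.smul_mem _ h1)) (W.smul_mem _ h2)

theorem heis_le_specialLinear : heis o ≤ specialLinear (Fin 3) F := by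
  rw [heis, Subgroup.closure_le]
  rintro _ (rfl | rfl) <;>
    rw [SetLike.mem_coe, specialLinear, MonoidHom.mem_ker, Units.ext_iff, Matrix.GeneralLinearGroup.val_det_apply,
      Units.val_one]
  exacts [det_clock o, det_shift]

variable [Fintype F] {p : ℕ} [Fact p.Prime]

/-- An overgroup with an element not normalising the Heisenberg group is everything. -/
theorem specialLinear_le_of_hessian (hF : Fintype.card F = p) (hp7 : 7 ≤ p) {M : Subgroup (GL (Fin 3) F)}
    (hN : subgroupNormalizer (heis o) ⊓ specialLinear (Fin 3) F ≤ M) (hSL : M ≤ specialLinear (Fin 3) F)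
    {g : GL (Fin 3) F} (hg : g ∈ M) (hgn : g ∉ subgroupNormalizer (heis o)) :
    specialLinear (Fin 3) F ≤ M := by
  classical
  have hdet : ∀ x ∈ specialLinear (Fin 3) F, (x : Matrix (Fin 3) (Fin 3) F).det = 1 := fun x hx => by
    rwa [specialLinear, MonoidHom.mem_ker, Units.ext_iff, Matrix.GeneralLinearGroup.val_det_apply,
      Units.val_one] at hx
  have hheis : heis o ≤ M := fun x hx => hN ⟨heis_le_normalizer o hx, heis_le_specialLinear o hx⟩
  have hquat : ∀ k, quat o k ∈ M := fun k => hN ⟨quat_mem_normalizer o k, show quat o k ∈ specialLinear (Fin 3) F by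
    rw [specialLinear, MonoidHom.mem_ker, Units.ext_iff, Matrix.GeneralLinearGroup.val_det_apply, Units.val_one]
    exact det_quat o k⟩
  by_cases hno : NoFlag M
  · exfalso
    have hfour : four o ∈ M := by simpa [quat] using hquat 0
    refine hgn (le_normalizer_of_isolated o (two_ne hF hp7) (hheis (clock_mem o)) (hheis (shift_mem o)) hfour
      (fun r hr hr2 hc => ?_) hg)
    by_contra hne
    push Not at hne
    exact false_of_commuting o hF hp7 hno (fun x hx => hdet x (hSL hx)) hquat (hheis (clock_mem o))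
      (hheis (shift_mem o)) hr hr2 hne.1 hne.2 hc
  · simp only [NoFlag, not_forall, not_not] at hno
    obtain ⟨v, a, hfl⟩ := hno
    exact specialLinear_le_of_rootIn ((irreducible_heis o).mono hheis) hfl.centre_ne hfl.axis_ne
      (hfl.rootIn_of_prime hF)

end CfsgLib.SLThree.Hessian

namespace CfsgLib.SLThree

open Matrix Cfsg.Geo CfsgLib.MaxSub

variable {F : Type*} [Field F] [Fintype F]

/-- **The normaliser of an extraspecial group of order 27 is maximal in `SL₃ (p)`.** -/
theorem isMaximalIn_hessian₃ {p : ℕ} (hp : p.Prime) (hF : Fintype.card F = p) (h1 : p % 3 = 1)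
    {R : Subgroup (GL (Fin 3) F)} (hR : IsLinearSymplecticTypeData 3 R) :
    IsMaximalIn (specialLinear (Fin 3) F) (subgroupNormalizer R ⊓ specialLinear (Fin 3) F) := by
  haveI : Fact p.Prime := ⟨hp⟩
  have hp7 : 7 ≤ p := by
    by_contra h
    have := hp.two_le
    interval_cases p <;> first | omega | exact absurd hp (by decide)
  obtain ⟨o⟩ := Hessian.exists_omega (F := F) (by omega)
  obtain ⟨P, hP⟩ := Hessian.exists_normal_form o hR
  haveI : (specialLinear (Fin 3) F).Normal := MonoidHom.normal_ker _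
  have hiff : ∀ g, g ∈ subgroupNormalizer R ↔ P⁻¹ * g * P ∈ subgroupNormalizer (Hessian.heis o) := by
    intro g
    show g ∈ Subgroup.normalizer (R : Set (GL (Fin 3) F)) ↔
      P⁻¹ * g * P ∈ Subgroup.normalizer (Hessian.heis o : Set (GL (Fin 3) F))
    rw [Subgroup.mem_normalizer_iff, Subgroup.mem_normalizer_iff]
    constructor
    · intro h x
      have hx := h (P * x * P⁻¹)
      simp only [hP] at hx
      simpa only [mul_assoc, inv_mul_cancel_left, inv_mul_cancel, mul_one, _root_.mul_inv_rev, inv_inv] using hx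
    · intro h x
      have hx := h (P⁻¹ * x * P)
      rw [hP, hP]
      simpa only [mul_assoc, mul_inv_cancel_left, inv_mul_cancel_left, inv_mul_cancel, mul_inv_cancel, mul_one,
        _root_.mul_inv_rev, inv_inv] using hx
  have hconj : ∀ x, x ∈ specialLinear (Fin 3) F → P⁻¹ * x * P ∈ specialLinear (Fin 3) F := fun x hx => by
    have h := Subgroup.Normal.conj_mem (inferInstance : (specialLinear (Fin 3) F).Normal) _ hx P⁻¹
    rwa [inv_inv] at h
  have hconj' : ∀ x, x ∈ specialLinear (Fin 3) F → P * x * P⁻¹ ∈ specialLinear (Fin 3) F := fun x hx =>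
    Subgroup.Normal.conj_mem inferInstance _ hx P
  refine isMaximalIn_of inf_le_right ?_ fun M hHM hMK g hg hg' x hx => ?_
  · obtain ⟨t, ht, htn⟩ := Hessian.exists_not_normalises o
    refine ⟨P * t * P⁻¹, hconj' t ht, fun h => htn ?_⟩
    have := (hiff _).1 h.1
    rwa [show P⁻¹ * (P * t * P⁻¹) * P = t by group] at this
  · set c := (MulAut.conj P).toMonoidHom with hc
    have hcapp : ∀ y, c y = P * y * P⁻¹ := fun y => rfl
    have hle := Hessian.specialLinear_le_of_hessian o hF hp7 (M := M.comap c)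
      (fun y hy => hHM ⟨(hiff _).2 (by rw [hcapp, show P⁻¹ * (P * y * P⁻¹) * P = y by group]; exact hy.1),
        hconj' y hy.2⟩)
      (fun y hy => by
        have := hconj _ (hMK (Subgroup.mem_comap.1 hy))
        rwa [hcapp, show P⁻¹ * (P * y * P⁻¹) * P = y by group] at this)
      (g := P⁻¹ * g * P)
      (by rw [Subgroup.mem_comap, hcapp, show P * (P⁻¹ * g * P) * P⁻¹ = g by group]; exact hg)
      (fun h => hg' ⟨(hiff g).2 h, hMK hg⟩)
    have := Subgroup.mem_comap.1 (hle (hconj x hx))
    rwa [hcapp, show P * (P⁻¹ * x * P) * P⁻¹ = x by group] at this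

end CfsgLib.SLThree
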