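import Cfsg.Agent.SLThree.Hessian.Model
import Cfsg.Prelude.Def_GeometricClasses
import Mathlib.GroupTheory.Nilpotent
import Mathlib.GroupTheory.PGroup

/-!
# Absolutely irreducible 3-groups of exponent three in `GL₃ (p)`

Such a group is conjugate to the group generated by clock and shift.
-/

set_option autoImplicit false
set_option linter.unusedSectionVars false

namespace CfsgLib.SLThree.Hessian

open Matrix Cfsg.Geo CfsgLib.MaxSub

variable {F : Type*} [Field F] [Fintype F]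

theorem exists_omega (h : Fintype.card F % 3 = 1) : Nonempty (Omega F) := by
  classical
  haveI : Fact (Nat.Prime 3) := ⟨Nat.prime_three⟩
  obtain ⟨u, hu⟩ := exists_prime_orderOf_dvd_card (G := Fˣ) 3 (by rw [Fintype.card_units]; omega)
  have h1 : (u : F) ≠ 1 := fun e => by
    rw [Units.val_eq_one.1 e, orderOf_one] at hu; norm_num at hu
  have h3 : (u : F) ^ 3 = 1 := by
    rw [← Units.val_pow_eq_pow_val, ← hu, pow_orderOf_eq_one, Units.val_one]
  have hs : (u : F) ^ 2 + u + 1 = 0 :=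
    (mul_eq_zero.1 (show ((u : F) - 1) * ((u : F) ^ 2 + u + 1) = 0 by linear_combination h3)).resolve_left
      (sub_ne_zero.2 h1)
  refine ⟨⟨u, hs, fun h0 => ?_⟩⟩
  obtain ⟨p, hp⟩ := CharP.exists F
  obtain ⟨n, hpp, hn⟩ := FiniteField.card F p
  have hp3 : p = 3 := (Nat.prime_dvd_prime_iff_eq hpp Nat.prime_three).1
    ((CharP.cast_eq_zero_iff F p 3).1 (by exact_mod_cast h0))
  have : 3 ∣ Fintype.card F := by rw [hn, hp3]; exact dvd_pow_self 3 n.ne_zero
  omega

variable (o : Omega F)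

theorem cube_cases {c : F} (hc : c ^ 3 = 1) : ∃ i : Fin 3, c = o.w ^ (i : ℕ) := by
  rcases mul_eq_zero.1 (show (c - 1) * (c - o.w) * (c - o.w ^ 2) = 0 by
    linear_combination hc - c * (c - o.w) * o.sum - o.cube) with h | h
  · rcases mul_eq_zero.1 h with h | h
    · exact ⟨0, by simpa using sub_eq_zero.1 h⟩
    · exact ⟨1, by simpa using sub_eq_zero.1 h⟩
  · exact ⟨2, sub_eq_zero.1 h⟩

/-- **The normal form**, from the order and the centre. -/
theorem exists_normal_form' {R : Subgroup (GL (Fin 3) F)} (hsymp : IsSymplecticTypeGroup 3 R)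
    (habs : ActsAbsolutelyIrreducibly (matrixSet R)) (hZ : Nat.card (Subgroup.center R) = 3) {m : ℕ} (hm : 1 ≤ m)
    (hcard : Nat.card R = 3 ^ (1 + 2 * m)) :
    ∃ P : GL (Fin 3) F, ∀ g, g ∈ R ↔ P⁻¹ * g * P ∈ heis o := by
  classical
  haveI : Fact (Nat.Prime 3) := ⟨Nat.prime_three⟩
  have hexp : ∀ g ∈ R, g ^ 3 = 1 := fun g hg => by
    have h := Monoid.pow_exponent_eq_one (⟨g, hg⟩ : R)
    rw [hsymp.exponent_eq] at h
    simpa using congrArg Subtype.val h
  have hscal : ∀ z : R, z ∈ Subgroup.center R →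
      ∃ c : F, ((z : GL (Fin 3) F) : Matrix (Fin 3) (Fin 3) F) = c • (1 : Matrix (Fin 3) (Fin 3) F) := by
    intro z hz
    refine habs.2 _ ?_
    rintro _ ⟨g, hg, rfl⟩
    exact (congrArg (fun t : R => ((t : GL (Fin 3) F) : Matrix (Fin 3) (Fin 3) F))
      (Subgroup.mem_center_iff.1 hz ⟨g, hg⟩)).symm
  -- an element central modulo the centre
  have hpq : IsPGroup 3 (R ⧸ Subgroup.center R) := hsymp.pGroup.to_quotient _
  haveI : Nontrivial (R ⧸ Subgroup.center R) := by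
    refine Finite.one_lt_card_iff_nontrivial.1 ?_
    have h := Subgroup.card_eq_card_quotient_mul_card_subgroup (Subgroup.center R)
    rw [hcard, hZ] at h
    have : 3 ^ 3 ≤ 3 ^ (1 + 2 * m) := Nat.pow_le_pow_right (by norm_num) (by omega)
    omega
  haveI := hpq.center_nontrivial
  obtain ⟨⟨xb, hxb⟩, hxb1⟩ := exists_ne (1 : Subgroup.center (R ⧸ Subgroup.center R))
  obtain ⟨x, rfl⟩ := QuotientGroup.mk_surjective xb
  have hxZ : x ∉ Subgroup.center R := fun h => hxb1 (Subtype.ext ((QuotientGroup.eq_one_iff x).2 h))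
  obtain ⟨y, hy⟩ : ∃ y : R, y * x ≠ x * y := by
    by_contra hn
    push Not at hn
    exact hxZ (Subgroup.mem_center_iff.2 hn)
  obtain ⟨c, hc⟩ := hscal (x * y * x⁻¹ * y⁻¹) ((QuotientGroup.eq_one_iff _).1 (by
    simp only [QuotientGroup.mk_mul, QuotientGroup.mk_inv]
    rw [← Subgroup.mem_center_iff.1 hxb (y : R ⧸ Subgroup.center R), mul_assoc (QuotientGroup.mk y)]
    group))
  set X := ((x : GL (Fin 3) F) : Matrix (Fin 3) (Fin 3) F) with hX
  set Y := ((y : GL (Fin 3) F) : Matrix (Fin 3) (Fin 3) F) with hY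
  have hXY : X * Y = c • (Y * X) := by
    have h : ((x : GL (Fin 3) F) * y) = ((x * y * x⁻¹ * y⁻¹ : R) : GL (Fin 3) F) * (y * x) := by
      push_cast; group
    have := congrArg Units.val h
    rwa [Units.val_mul, Units.val_mul, hc, smul_mul_assoc, one_mul, Units.val_mul] at this
  have hX3 : X * X * X = 1 := by
    rw [hX, ← Units.val_mul, ← Units.val_mul, ← pow_two, ← pow_succ, hexp _ x.2, Units.val_one]
  have hc3 : c ^ 3 = 1 := by
    have e1 : X * X * X * Y = c ^ 3 • (Y * (X * X * X)) := by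
      rw [mul_assoc, hXY, mul_smul_comm, ← mul_assoc, mul_assoc X X Y, hXY, mul_smul_comm, ← mul_assoc,
        smul_mul_assoc, smul_smul, hXY, smul_mul_assoc, smul_mul_assoc, smul_smul]
      simp only [mul_assoc]
      congr 1
      ring
    rw [hX3, one_mul, mul_one] at e1
    by_contra hne
    have : (c ^ 3 - 1) • Y = 0 := by rw [sub_smul, one_smul, ← e1, sub_self]
    exact (y : GL (Fin 3) F).ne_zero ((smul_eq_zero.1 this).resolve_left (sub_ne_zero.2 hne))
  -- adjust the second element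
  obtain ⟨Y, hY3, hYm, hXY⟩ : ∃ Y : GL (Fin 3) F, Y ^ 3 = 1 ∧ Y ∈ R ∧
      X * (Y : Matrix (Fin 3) (Fin 3) F) = o.w • ((Y : Matrix (Fin 3) (Fin 3) F) * X) := by
    obtain ⟨i, hi⟩ := cube_cases o hc3
    fin_cases i
    · exfalso
      refine hy (Subtype.ext (Units.ext ?_))
      simp at hi
      rw [Subgroup.coe_mul, Subgroup.coe_mul, Units.val_mul, Units.val_mul, ← hX, ← hY, hXY, hi, one_smul]
    · exact ⟨y, hexp _ y.2, y.2, by rw [← hY, hXY, hi]; simp⟩
    · refine ⟨y * y, hexp _ (R.mul_mem y.2 y.2), R.mul_mem y.2 y.2, ?_⟩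
      rw [Units.val_mul, ← hY, ← mul_assoc, hXY, smul_mul_assoc, mul_assoc, hXY, mul_smul_comm, smul_smul, ← mul_assoc]
      congr 1
      rw [hi]
      show o.w ^ 2 * o.w ^ 2 = o.w
      linear_combination o.w * o.cube
  set Ym := (Y : Matrix (Fin 3) (Fin 3) F) with hYm'
  -- a fixed vector
  obtain ⟨v, hv0, hv⟩ : ∃ v : Fin 3 → F, v ≠ 0 ∧ X *ᵥ v = v := by
    have hE : ∀ (k : ℕ) (u : Fin 3 → F), X *ᵥ (u + o.w ^ k • (X *ᵥ u) + o.w ^ (2 * k) • (X *ᵥ (X *ᵥ u))) =
        o.w ^ (2 * k) • (u + o.w ^ k • (X *ᵥ u) + o.w ^ (2 * k) • (X *ᵥ (X *ᵥ u))) := fun k u => by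
      have h3 : o.w ^ (3 * k) = 1 := by rw [pow_mul, o.cube, one_pow]
      have h4 : X *ᵥ (X *ᵥ (X *ᵥ u)) = u := by rw [mulVec_mulVec, mulVec_mulVec, hX3, one_mulVec]
      simp only [mulVec_add, mulVec_smul, h4, smul_add, smul_smul, ← pow_add]
      rw [show 2 * k + k = 3 * k by ring, h3, one_smul, show 2 * k + 2 * k = 3 * k + k by ring, pow_add, h3, one_mul]
      abel
    obtain ⟨k, w, hw0, hw⟩ : ∃ (k : ℕ) (w : Fin 3 → F), w ≠ 0 ∧ X *ᵥ w = o.w ^ k • w := by
      by_contra hn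
      push Not at hn
      set u : Fin 3 → F := Pi.single 0 1
      have hz : ∀ k, u + o.w ^ k • (X *ᵥ u) + o.w ^ (2 * k) • (X *ᵥ (X *ᵥ u)) = 0 :=
        fun k => by_contra fun h0 => hn (2 * k) _ h0 (hE k u)
      have a0 := congrFun (hz 0) 0
      have a1 := congrFun (hz 1) 0
      have a2 := congrFun (hz 2) 0
      simp only [Pi.add_apply, Pi.smul_apply, smul_eq_mul, Pi.zero_apply] at a0 a1 a2
      have hu : u 0 = 1 := Pi.single_eq_same 0 1
      exact o.three (by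
        linear_combination a0 + a1 + a2 - (X *ᵥ u) 0 * o.sum - (X *ᵥ (X *ᵥ u)) 0 * o.sum -
          (X *ᵥ (X *ᵥ u)) 0 * o.w * o.cube - 3 * hu)
    -- move along the second element
    have hmove : ∀ (j : ℕ) (u : Fin 3 → F), X *ᵥ u = o.w ^ j • u → X *ᵥ (Ym *ᵥ u) = o.w ^ (j + 1) • (Ym *ᵥ u) :=
      fun j u h => by
        rw [mulVec_mulVec, hXY, smul_mulVec, ← mulVec_mulVec, h, mulVec_smul, smul_smul, ← pow_succ']
    have hne : ∀ u : Fin 3 → F, u ≠ 0 → Ym *ᵥ u ≠ 0 := fun u hu h => hu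
      (mulVec_injective_iff_isUnit.mpr Y.isUnit (h.trans (mulVec_zero _).symm))
    rw [pow_eq_pow_mod k o.cube] at hw
    have hk : k % 3 < 3 := Nat.mod_lt _ (by norm_num)
    interval_cases (k % 3)
    · exact ⟨w, hw0, by simpa using hw⟩
    · exact ⟨_, hne _ (hne _ hw0), by rw [hmove 2 _ (hmove 1 w hw), o.cube, one_smul]⟩
    · exact ⟨_, hne _ hw0, by rw [hmove 2 w hw, o.cube, one_smul]⟩
  -- the basis
  have hX1 : X *ᵥ (Ym *ᵥ v) = o.w • (Ym *ᵥ v) := by
    rw [mulVec_mulVec, hXY, smul_mulVec, ← mulVec_mulVec, hv]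
  have hX2 : X *ᵥ (Ym *ᵥ (Ym *ᵥ v)) = o.w ^ 2 • (Ym *ᵥ (Ym *ᵥ v)) := by
    rw [mulVec_mulVec, hXY, smul_mulVec, ← mulVec_mulVec, hX1, mulVec_smul, smul_smul, pow_two]
  have hY3' : Ym *ᵥ (Ym *ᵥ (Ym *ᵥ v)) = v := by
    rw [mulVec_mulVec, mulVec_mulVec, hYm', ← Units.val_mul, ← Units.val_mul, ← pow_two, ← pow_succ, hY3,
      Units.val_one, one_mulVec]
  set Pm : Matrix (Fin 3) (Fin 3) F := (Matrix.of ![v, Ym *ᵥ v, Ym *ᵥ (Ym *ᵥ v)])ᵀ with hPm
  have hPc : ∀ c : Fin 3 → F, Pm *ᵥ c = c 0 • v + c 1 • (Ym *ᵥ v) + c 2 • (Ym *ᵥ (Ym *ᵥ v)) := fun c => by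
    funext i
    simp [hPm, mulVec, dotProduct, Fin.sum_univ_three, mul_comm]
  have hunit : IsUnit Pm := by
    refine mulVec_injective_iff_isUnit.1 ((injective_iff_map_eq_zero Pm.mulVecLin).2 fun c hc => ?_)
    rw [mulVecLin_apply, hPc] at hc
    have h1 := congrArg (X *ᵥ ·) hc
    simp only [mulVec_add, mulVec_smul, hv, hX1, hX2, mulVec_zero] at h1
    have h2 := congrArg (X *ᵥ ·) h1
    simp only [mulVec_add, mulVec_smul, hv, hX1, hX2, mulVec_zero] at h2
    have hy1 : Ym *ᵥ v ≠ 0 := fun h => hv0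
      (mulVec_injective_iff_isUnit.mpr Y.isUnit (h.trans (mulVec_zero _).symm))
    have hy2 : Ym *ᵥ (Ym *ᵥ v) ≠ 0 := fun h => hy1
      (mulVec_injective_iff_isUnit.mpr Y.isUnit (h.trans (mulVec_zero _).symm))
    set u0 := v
    set u1 := Ym *ᵥ v
    set u2 := Ym *ᵥ u1
    have key : ∀ i, (3 * c 0) * u0 i = 0 ∧ (3 * c 1) * u1 i = 0 ∧ (3 * c 2) * u2 i = 0 := fun i => by
      have a0 := congrFun hc i
      have a1 := congrFun h1 i
      have a2 := congrFun h2 i
      simp only [Pi.add_apply, Pi.smul_apply, smul_eq_mul, Pi.zero_apply] at a0 a1 a2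
      have hcube := o.cube
      have hsum := o.sum
      refine ⟨?_, ?_, ?_⟩ <;> grind
    have hget : ∀ (a : F) (u : Fin 3 → F), u ≠ 0 → (∀ i, (3 * a) * u i = 0) → a = 0 := fun a u hu h => by
      obtain ⟨i, hi⟩ := Function.ne_iff.1 hu
      exact (mul_eq_zero.1 ((mul_eq_zero.1 (h i)).resolve_right hi)).resolve_left o.three
    funext i
    fin_cases i
    exacts [hget _ _ hv0 fun i => (key i).1, hget _ _ hy1 fun i => (key i).2.1, hget _ _ hy2 fun i => (key i).2.2]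
  set P := hunit.unit with hP
  have hPv : (P : Matrix (Fin 3) (Fin 3) F) = Pm := rfl
  have hcl : P⁻¹ * (x : GL (Fin 3) F) * P = clock o := by
    rw [mul_assoc, inv_mul_eq_iff_eq_mul]
    apply Units.ext
    refine Matrix.ext_of_mulVec_single fun i => ?_
    rw [Units.val_mul, Units.val_mul, ← mulVec_mulVec, ← mulVec_mulVec, hPv, ← hX, hPc, hPc]
    simp only [mulVec_add, mulVec_smul, hv, hX1, hX2]
    fin_cases i <;> simp [clock]
  have hsh : P⁻¹ * Y * P = shift F := by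
    rw [mul_assoc, inv_mul_eq_iff_eq_mul]
    apply Units.ext
    refine Matrix.ext_of_mulVec_single fun i => ?_
    rw [Units.val_mul, Units.val_mul, ← mulVec_mulVec, ← mulVec_mulVec, hPv, ← hYm', hPc, hPc]
    simp only [mulVec_add, mulVec_smul, hY3']
    fin_cases i <;> simp [shift]
  set R' := R.comap (MulAut.conj P).toMonoidHom with hR'
  have hmemR : ∀ g, P⁻¹ * g * P ∈ R' ↔ g ∈ R := fun g => by
    rw [hR', Subgroup.mem_comap]
    show P * (P⁻¹ * g * P) * P⁻¹ ∈ R ↔ _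
    rw [show P * (P⁻¹ * g * P) * P⁻¹ = g by group]
  have hle : heis o ≤ R' := by
    rw [heis, Subgroup.closure_le]
    rintro _ (rfl | rfl)
    · rw [← hcl]; exact (hmemR _).2 x.2
    · rw [← hsh]; exact (hmemR _).2 hYm
  refine ⟨P, fun g => ⟨fun hg => ?_, fun hg => (hmemR g).1 (hle hg)⟩⟩
  set r := P⁻¹ * g * P with hr
  have hrR : r ∈ R' := (hmemR g).2 hg
  have hpow : ∀ u ∈ R', u ^ 3 = 1 := fun u hu => by
    have h := hexp _ (Subgroup.mem_comap.1 hu)
    rw [← map_pow] at h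
    exact (MulAut.conj P).injective (h.trans (map_one _).symm)
  -- conjugation scales the clock
  obtain ⟨l, hl⟩ : ∃ l : F, (r : Matrix (Fin 3) (Fin 3) F) * (clock o : Matrix (Fin 3) (Fin 3) F) =
      l • ((clock o : Matrix (Fin 3) (Fin 3) F) * r) := by
    have hcen : (⟨g, hg⟩ : R) * x * (⟨g, hg⟩ : R)⁻¹ * x⁻¹ ∈ Subgroup.center R := by
      refine (QuotientGroup.eq_one_iff _).1 ?_
      simp only [QuotientGroup.mk_mul, QuotientGroup.mk_inv]
      rw [Subgroup.mem_center_iff.1 hxb (QuotientGroup.mk (⟨g, hg⟩ : R))]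
      group
    obtain ⟨l, hl⟩ := hscal _ hcen
    refine ⟨l, ?_⟩
    have h : r * clock o = P⁻¹ * (((⟨g, hg⟩ : R) * x * (⟨g, hg⟩ : R)⁻¹ * x⁻¹ : R) : GL (Fin 3) F) * P * (clock o * r) := by
      rw [← hcl, hr]; push_cast; group
    have h' := congrArg Units.val h
    rw [Units.val_mul] at h'
    rw [h', Units.val_mul (P⁻¹ * _ * P), Units.val_mul (P⁻¹ * _), Units.val_mul P⁻¹, hl, mul_smul_comm,
      mul_one, smul_mul_assoc, smul_mul_assoc, Units.inv_mul, one_mul, Units.val_mul]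
  have hl3 : l ^ 3 = 1 := by
    have h := congrArg Matrix.det hl
    rw [det_mul, det_smul, det_mul, Fintype.card_fin] at h
    have hd : (r : Matrix (Fin 3) (Fin 3) F).det * (clock o : Matrix (Fin 3) (Fin 3) F).det ≠ 0 :=
      mul_ne_zero (Matrix.isUnit_iff_isUnit_det _ |>.1 r.isUnit).ne_zero
        (Matrix.isUnit_iff_isUnit_det _ |>.1 (clock o).isUnit).ne_zero
    exact mul_right_cancel₀ hd (by linear_combination -h)
  obtain ⟨i, hi⟩ := cube_cases o hl3
  obtain ⟨⟨-, -⟩, -⟩ := (eig_of_mem o (clock_mem o))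
  set d := shift F ^ (i : ℕ) * r with hd
  have hdR : d ∈ R' := R'.mul_mem (R'.pow_mem (hle (shift_mem o)) _) hrR
  have hsc : (shift F : Matrix (Fin 3) (Fin 3) F) * (clock o : Matrix (Fin 3) (Fin 3) F) =
      o.w ^ 2 • ((clock o : Matrix (Fin 3) (Fin 3) F) * shift F) := by
    have := o.cube
    show (!![0, 0, 1; 1, 0, 0; 0, 1, 0] : Matrix (Fin 3) (Fin 3) F) * !![1, 0, 0; 0, o.w, 0; 0, 0, o.w ^ 2] =
      o.w ^ 2 • (!![1, 0, 0; 0, o.w, 0; 0, 0, o.w ^ 2] * !![0, 0, 1; 1, 0, 0; 0, 1, 0])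
    ext a b; fin_cases a <;> fin_cases b <;> simp [Matrix.mul_apply, Fin.sum_univ_three] <;> grind
  have hpw : ∀ n : ℕ, (shift F : Matrix (Fin 3) (Fin 3) F) ^ n * (clock o : Matrix (Fin 3) (Fin 3) F) =
      o.w ^ (2 * n) • ((clock o : Matrix (Fin 3) (Fin 3) F) * (shift F : Matrix (Fin 3) (Fin 3) F) ^ n) := by
    intro n
    induction n with
    | zero => simp
    | succ n ih =>
      rw [pow_succ', mul_assoc, ih, mul_smul_comm, ← mul_assoc, hsc, smul_mul_assoc, smul_smul, mul_assoc, ← pow_add]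
      ring_nf
  have hdc : (d : Matrix (Fin 3) (Fin 3) F) * (clock o : Matrix (Fin 3) (Fin 3) F) =
      (clock o : Matrix (Fin 3) (Fin 3) F) * d := by
    rw [hd, Units.val_mul, Units.val_pow_eq_pow_val, mul_assoc, hl, mul_smul_comm, ← mul_assoc, hpw,
      smul_mul_assoc, smul_smul, hi, ← pow_add, show (i : ℕ) + 2 * i = 3 * i by ring, pow_mul, o.cube, one_pow,
      one_smul, mul_assoc]
  -- diagonal
  have hoff : ∀ a b : Fin 3, a ≠ b → (d : Matrix (Fin 3) (Fin 3) F) a b = 0 := by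
    intro a b hab
    have h := congrFun (congrFun hdc a) b
    have h1 := o.ne_one
    have hsum := o.sum
    rw [show (clock o : Matrix (Fin 3) (Fin 3) F) = !![1, 0, 0; 0, o.w, 0; 0, 0, o.w ^ 2] from rfl] at h
    fin_cases a <;> fin_cases b <;> simp at hab <;> simp [Matrix.mul_apply, Fin.sum_univ_three] at h ⊢ <;> grind
  set d0 := (d : Matrix (Fin 3) (Fin 3) F) 0 0
  set d1 := (d : Matrix (Fin 3) (Fin 3) F) 1 1
  set d2 := (d : Matrix (Fin 3) (Fin 3) F) 2 2
  have hdv : (d : Matrix (Fin 3) (Fin 3) F) = !![d0, 0, 0; 0, d1, 0; 0, 0, d2] := by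
    ext a b; fin_cases a <;> fin_cases b <;> simp [hoff, d0, d1, d2]
  have hd3 := congrArg Units.val (hpow d hdR)
  have hds3 := congrArg Units.val (hpow (d * shift F) (R'.mul_mem hdR (hle (shift_mem o))))
  rw [Units.val_pow_eq_pow_val, Units.val_one, hdv, pow_succ, pow_two] at hd3
  rw [Units.val_pow_eq_pow_val, Units.val_mul, Units.val_one, hdv, pow_succ, pow_two,
    show (shift F : Matrix (Fin 3) (Fin 3) F) = !![0, 0, 1; 1, 0, 0; 0, 1, 0] from rfl] at hds3
  have a0 : d0 * d0 * d0 = 1 := by simpa [Matrix.mul_apply, Fin.sum_univ_three] using congrFun (congrFun hd3 0) 0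
  have a1 : d1 * d1 * d1 = 1 := by simpa [Matrix.mul_apply, Fin.sum_univ_three] using congrFun (congrFun hd3 1) 1
  have a2 := congrFun (congrFun hds3 0) 0
  simp [Matrix.mul_apply, Fin.sum_univ_three] at a2
  obtain ⟨k, hk⟩ := cube_cases o (show (d1 * d0 ^ 2) ^ 3 = 1 by
    linear_combination (d0 ^ 3 + 1) * a0 + d0 ^ 6 * a1)
  have hmo : Mo o (d : Matrix (Fin 3) (Fin 3) F) := by
    refine ⟨d0, k, 0, ?_⟩
    rw [mo_val, hdv]
    have hcube := o.cube
    ext a b
    fin_cases a <;> fin_cases b <;> simp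
    · rw [← hk]; linear_combination -d1 * a0
    · rw [mul_comm (k : ℕ) 2, two_mul, pow_add, ← hk]
      grind
  have hdm := mem_of_mo o hmo (hpow d hdR)
  rw [show r = (shift F ^ (i : ℕ))⁻¹ * d by rw [hd]; group]
  exact (heis o).mul_mem ((heis o).inv_mem ((heis o).pow_mem (shift_mem o) _)) hdm

/-- **The normal form.** -/
theorem exists_normal_form {R : Subgroup (GL (Fin 3) F)} (hR : IsLinearSymplecticTypeData 3 R) :
    ∃ P : GL (Fin 3) F, ∀ g, g ∈ R ↔ P⁻¹ * g * P ∈ heis o := by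
  obtain ⟨p, e, -, -, hdata⟩ := hR.field
  rcases hdata with ⟨-, -, h1, m, hm, h2⟩ | ⟨h, -⟩ | ⟨h, -⟩
  · exact exists_normal_form' o hR.symplecticType hR.absIrred h1 hm h2
  all_goals norm_num at h

end CfsgLib.SLThree.Hessian
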