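import Cfsg.Agent.SLThree.Homology
import Mathlib.Algebra.BigOperators.Group.Finset.Basic
import Mathlib.GroupTheory.GroupAction.Quotient
import Mathlib.LinearAlgebra.Projectivization.Basic

/-!
# Finite rotation groups

An irreducible group of isometries of a form on `F³`, of determinant one and without transvections, with an
element of order at least six fixing a vector has order divisible by the characteristic.
-/

set_option autoImplicit false
set_option linter.unusedSectionVars false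

namespace CfsgLib.SLThree.Hessian

open Matrix Cfsg.Geo CfsgLib.MaxSub
open scoped LinearAlgebra.Projectivization

/-- The contribution of a further orbit of axes. -/
def OrbitTerm (N c : ℕ) : Prop :=
  2 * c = N ∨ 2 * N ≤ 3 * c ∨ 4 * c = N ∨ (N ≤ 3 * c ∧ 2 * c < N)

theorem orbitTerm_of {N o e k : ℕ} (he : e = 1 ∨ e = 2) (hk : 2 ≤ k) (h : o * (e * k) = N) (hN : 0 < N) :
    OrbitTerm N (o * (k - 1)) := by
  obtain ⟨m, rfl⟩ := Nat.exists_eq_add_of_le hk
  rw [show 2 + m - 1 = m + 1 by omega, Nat.mul_succ]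
  have ho : 0 < o := Nat.pos_of_ne_zero fun h0 => by rw [h0, zero_mul] at h; omega
  rcases he with rfl | rfl
  · have h' : 2 * o + o * m = N := by rw [← h]; ring
    rcases m with _ | m
    · exact Or.inl (by omega)
    · refine Or.inr (Or.inl ?_)
      have : o ≤ o * (m + 1) := Nat.le_mul_of_pos_right _ (by omega)
      omega
  · have h' : 4 * o + 2 * (o * m) = N := by rw [← h]; ring
    rcases m with _ | m
    · exact Or.inr (Or.inr (Or.inl (by omega)))
    · refine Or.inr (Or.inr (Or.inr ?_))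
      have : o ≤ o * (m + 1) := Nat.le_mul_of_pos_right _ (by omega)
      omega

variable {F : Type*} [Field F] [Fintype F] {p : ℕ} [Fact p.Prime]
  {B : Matrix (Fin 3) (Fin 3) F} {X : Subgroup (GL (Fin 3) F)}

section
variable (hF : Fintype.card F = p) (h2 : (2 : F) ≠ 0) (hsym : Bᵀ = B) (hdet : B.det ≠ 0)
  (hB : ∀ g ∈ X, (g : Matrix (Fin 3) (Fin 3) F)ᵀ * B * g = B)
  (hX1 : ∀ g ∈ X, (g : Matrix (Fin 3) (Fin 3) F).det = 1) (hno : NoFlag X)

include hF h2 hsym hdet hB hX1 hno

theorem dot_iso {g : GL (Fin 3) F} (hg : g ∈ X) (v w : Fin 3 → F) :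
    (B *ᵥ ((g : Matrix (Fin 3) (Fin 3) F) *ᵥ v)) ⬝ᵥ ((g : Matrix (Fin 3) (Fin 3) F) *ᵥ w) = (B *ᵥ v) ⬝ᵥ w := by
  conv_rhs => rw [← hB g hg]
  rw [dotProduct_mulVec, ← mulVec_transpose, mulVec_mulVec, mulVec_mulVec, mul_assoc]

theorem dot_comm_B (v w : Fin 3 → F) : (B *ᵥ v) ⬝ᵥ w = (B *ᵥ w) ⬝ᵥ v := by
  rw [dotProduct_comm (B *ᵥ w) v, dotProduct_mulVec v B w, ← mulVec_transpose, hsym]

theorem exists_fixed {g : GL (Fin 3) F} (hg : g ∈ X) :
    ∃ w : Fin 3 → F, w ≠ 0 ∧ (g : Matrix (Fin 3) (Fin 3) F) *ᵥ w = w := by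
  set G := (g : Matrix (Fin 3) (Fin 3) F)
  have h : (1 - Gᵀ) * B * G = B * (G - 1) := by
    rw [sub_mul, sub_mul, one_mul, hB g hg, mul_sub, mul_one]
  have hd := congrArg Matrix.det h
  rw [det_mul, det_mul, det_mul, hX1 g hg, mul_one, show (1 : Matrix (Fin 3) (Fin 3) F) - Gᵀ = (1 - G)ᵀ by simp,
    det_transpose, show G - 1 = -(1 - G) by abel, det_neg, Fintype.card_fin] at hd
  have h0 : (1 - G).det = 0 := (mul_eq_zero.1 (show (2 * B.det) * (1 - G).det = 0 by linear_combination hd)).resolve_left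
    (mul_ne_zero h2 hdet)
  obtain ⟨w, hw, hw'⟩ := exists_mulVec_eq_zero_iff.2 h0
  rw [sub_mulVec, one_mulVec, sub_eq_zero] at hw'
  exact ⟨w, hw, hw'.symm⟩

theorem fixed_smul {g : GL (Fin 3) F} (hg : g ∈ X) (h1 : g ≠ 1) {v w : Fin 3 → F} (hv : v ≠ 0)
    (hgv : (g : Matrix (Fin 3) (Fin 3) F) *ᵥ v = v) (hgw : (g : Matrix (Fin 3) (Fin 3) F) *ᵥ w = w) :
    ∃ c : F, c • v = w := by
  refine (indep_or_smul hv w).resolve_left fun hi => ?_
  set a := crossProduct v w with ha
  have ha0 : a ≠ 0 := hi.cross_ne_zero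
  set N := (g : Matrix (Fin 3) (Fin 3) F) - 1 with hN
  have hrow : ∀ i, ∃ c : F, c • a = N i := fun i => by
    refine exists_smul_of_dot hi ha0 (dot_self_cross v w) (dot_cross_self v w) ?_ ?_
    · rw [dotProduct_comm]
      show (N *ᵥ v) i = 0
      rw [hN, sub_mulVec, one_mulVec, hgv, sub_self]; rfl
    · rw [dotProduct_comm]
      show (N *ᵥ w) i = 0
      rw [hN, sub_mulVec, one_mulVec, hgw, sub_self]; rfl
  choose c hc using hrow
  have hNv : N = vecMulVec c a := by
    ext i j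
    rw [vecMulVec_apply, ← hc i]
    rfl
  have hgeq : (g : Matrix (Fin 3) (Fin 3) F) = 1 + vecMulVec c a := by rw [← hNv, hN]; abel
  have hd := hX1 g hg
  rw [hgeq, vecMulVec_eq Unit, det_one_add_replicateCol_mul_replicateRow, add_eq_left] at hd
  have hc0 : c ≠ 0 := fun h => h1 (Units.ext (by rw [hgeq, h]; ext i j; simp [vecMulVec_apply]))
  refine hno c a (flag_of_tv hd hc0 ha0 ?_)
  convert hg
  exact Units.ext (by rw [tv_coe hd, hgeq])

theorem anisotropic_fixed (hp : ¬ p ∣ Nat.card X) {g : GL (Fin 3) F} (hg : g ∈ X) (h1 : g ≠ 1) {w : Fin 3 → F}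
    (hw : w ≠ 0) (hgw : (g : Matrix (Fin 3) (Fin 3) F) *ᵥ w = w) : (B *ᵥ w) ⬝ᵥ w ≠ 0 := by
  intro hiso
  haveI : CharP F p := charP_of_card_eq_prime hF
  set N := (g : Matrix (Fin 3) (Fin 3) F) - 1 with hN
  set T := N.mulVecLin with hT
  have hTa : ∀ v, T v = (g : Matrix (Fin 3) (Fin 3) F) *ᵥ v - v := fun v => by
    rw [hT, mulVecLin_apply, hN, sub_mulVec, one_mulVec]
  have hker : LinearMap.ker T = Submodule.span F {w} := by
    ext v
    rw [LinearMap.mem_ker, hTa, sub_eq_zero, Submodule.mem_span_singleton]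
    refine ⟨fixed_smul hF h2 hsym hdet hB hX1 hno hg h1 hw hgw, ?_⟩
    rintro ⟨c, rfl⟩
    rw [mulVec_smul, hgw]
  let φ : (Fin 3 → F) →ₗ[F] F :=
    { toFun := fun x => (B *ᵥ w) ⬝ᵥ x
      map_add' := fun x y => dotProduct_add _ _ _
      map_smul' := fun c x => by simp [dotProduct_smul] }
  have hle : LinearMap.range T ≤ LinearMap.ker φ := by
    rintro _ ⟨v, rfl⟩
    show (B *ᵥ w) ⬝ᵥ T v = 0
    rw [hTa, dotProduct_sub]
    conv_lhs => arg 1; rw [← hgw, dot_iso hF h2 hsym hdet hB hX1 hno hg]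
    rw [sub_self]
  have hk := T.finrank_range_add_finrank_ker
  rw [hker, finrank_span_singleton hw, Module.finrank_fin_fun] at hk
  have hBw : B *ᵥ w ≠ 0 := fun h => hw
    (mulVec_injective_iff_isUnit.2 ((Matrix.isUnit_iff_isUnit_det _).2 (Ne.isUnit hdet)) (h.trans (mulVec_zero B).symm))
  have hφ : Module.finrank F (LinearMap.ker φ) ≤ 2 := by
    have h' := φ.finrank_range_add_finrank_ker
    rw [Module.finrank_fin_fun] at h'
    have h'' : 1 ≤ Module.finrank F (LinearMap.range φ) := by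
      rw [Submodule.one_le_finrank_iff, Ne, LinearMap.range_eq_bot]
      intro h0
      obtain ⟨x, hx⟩ := exists_dot_eq_one hBw
      have : (B *ᵥ w) ⬝ᵥ x = 0 := LinearMap.congr_fun h0 x
      first | rw [hx] at this | rw [dotProduct_comm, hx] at this
      exact one_ne_zero this
    omega
  have heq : LinearMap.range T = LinearMap.ker φ := Submodule.eq_of_le_of_finrank_le hle (by omega)
  have hwmem : w ∈ LinearMap.range T := by rw [heq]; exact hiso
  obtain ⟨v, hv⟩ := hwmem
  have hgv : (g : Matrix (Fin 3) (Fin 3) F) *ᵥ v = v + w := by rw [← hv, hTa]; abel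
  have hvw : v ∈ LinearMap.range T := by
    rw [heq]
    show (B *ᵥ w) ⬝ᵥ v = 0
    have h := dot_iso hF h2 hsym hdet hB hX1 hno hg v v
    rw [hgv, mulVec_add, add_dotProduct, dotProduct_add, dotProduct_add, hiso,
      dot_comm_B hF h2 hsym hdet hB hX1 hno v w] at h
    exact (mul_eq_zero.1 (show 2 * ((B *ᵥ w) ⬝ᵥ v) = 0 by linear_combination h)).resolve_left h2
  have hindep : Indep w v := by
    intro s t h
    have h' := congrArg T h
    rw [map_add, map_smul, map_smul, map_zero, hv, show T w = 0 by rw [hTa, hgw, sub_self], smul_zero, zero_add] at h'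
    have ht := (smul_eq_zero.1 h').resolve_right hw
    rw [ht, zero_smul, add_zero] at h
    exact ⟨(smul_eq_zero.1 h).resolve_right hw, ht⟩
  have hspan : LinearMap.range T = Submodule.span F ({w, v} : Set (Fin 3 → F)) := by
    refine (Submodule.eq_of_le_of_finrank_le (Submodule.span_le.2 ?_) ?_).symm
    · rintro _ (rfl | rfl)
      · exact ⟨v, hv⟩
      · exact hvw
    · have := finrank_span_eq_card hindep.linearIndependent
      rw [Fintype.card_fin, show Set.range ![w, v] = ({w, v} : Set (Fin 3 → F)) by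
        simp [Set.ext_iff, eq_comm, or_comm]] at this
      omega
  have h3 : ∀ y, T (T (T y)) = 0 := fun y => by
    obtain ⟨s, t, hst⟩ := Submodule.mem_span_pair.1 (hspan ▸ LinearMap.mem_range_self T y)
    rw [← hst, map_add, map_smul, map_smul, hv, show T w = 0 by rw [hTa, hgw, sub_self], smul_zero, zero_add,
      map_smul, show T w = 0 by rw [hTa, hgw, sub_self], smul_zero]
  have hp2 : p ≠ 2 := fun h => by
    subst h
    exact h2 (by exact_mod_cast (CharP.cast_eq_zero F 2))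
  have hNp : N ^ p = 0 := by
    have h30 : N ^ 3 = 0 := Matrix.ext_of_mulVec_single fun i => by
      rw [zero_mulVec, pow_succ, pow_two, ← mulVec_mulVec, ← mulVec_mulVec]
      exact h3 _
    obtain ⟨k, hk⟩ := Nat.exists_eq_add_of_le (show 3 ≤ p by have := (Fact.out : p.Prime).two_le; omega)
    rw [hk, pow_add, h30, zero_mul]
  rw [hN, sub_pow_char_of_commute p (Commute.one_right _), one_pow, sub_eq_zero] at hNp
  have hgp : (⟨g, hg⟩ : X) ^ p = 1 := Subtype.ext (Units.ext (by
    simpa [Units.val_pow_eq_pow_val] using hNp))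
  have ho : orderOf (⟨g, hg⟩ : X) = p :=
    orderOf_eq_prime hgp fun h => h1 (congrArg Subtype.val h)
  exact hp (ho ▸ orderOf_dvd_natCard _)

/-- **Rotation groups with an element of order at least six.** -/
theorem dvd_card_of_rotation (hirr : MaxSub.Irreducible X) {T : GL (Fin 3) F} (hT : T ∈ X) {w₀ : Fin 3 → F}
    (hw₀ : w₀ ≠ 0) (hTw : (T : Matrix (Fin 3) (Fin 3) F) *ᵥ w₀ = w₀) (hord : 6 ≤ orderOf T) :
    p ∣ Nat.card X := by
  classical
  by_contra hp
  haveI : Fintype (ℙ F (Fin 3 → F)) := Fintype.ofFinite _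
  haveI : Fintype X := Fintype.ofFinite _
  have hinjg : ∀ g : GL (Fin 3) F, Function.Injective (g : Matrix (Fin 3) (Fin 3) F).mulVecLin := fun g =>
    mulVec_injective_iff_isUnit.2 g.isUnit
  letI act : MulAction X (ℙ F (Fin 3 → F)) :=
    { smul := fun g P => Projectivization.map _ (hinjg g.1) P
      one_smul := fun P => by
        induction P using Projectivization.ind with
        | h v hv =>
          show Projectivization.map _ (hinjg _) _ = _
          rw [Projectivization.map_mk]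
          congr 1
          simp
      mul_smul := fun g h P => by
        induction P using Projectivization.ind with
        | h v hv =>
          show Projectivization.map _ (hinjg _) _ = Projectivization.map _ (hinjg _) (Projectivization.map _ (hinjg _) _)
          rw [Projectivization.map_mk, Projectivization.map_mk, Projectivization.map_mk]
          congr 1
          simp [mulVec_mulVec] }
  have hsmul : ∀ (g : X) (v : Fin 3 → F) (hv : v ≠ 0),
      g • Projectivization.mk F v hv = Projectivization.mk F ((g.1 : Matrix (Fin 3) (Fin 3) F) *ᵥ v)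
        (fun h => hv (hinjg g.1 (h.trans (map_zero (g.1 : Matrix (Fin 3) (Fin 3) F).mulVecLin).symm))) :=
    fun g v hv => Projectivization.map_mk _ _ _ hv
  let St : ℙ F (Fin 3 → F) → Subgroup X := fun P =>
    { carrier := {g | (g.1 : Matrix (Fin 3) (Fin 3) F) *ᵥ P.rep = P.rep}
      one_mem' := by simp
      mul_mem' := fun {g h} hg hh => by
        simp only [Set.mem_setOf_eq] at hg hh ⊢
        rw [Subgroup.coe_mul, Units.val_mul, ← mulVec_mulVec, hh, hg]
      inv_mem' := fun {g} hg => by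
        simp only [Set.mem_setOf_eq] at hg ⊢
        conv_lhs => rw [← hg]
        rw [mulVec_mulVec, Subgroup.coe_inv, Units.inv_mul, one_mulVec] }
  let k : ℙ F (Fin 3 → F) → ℕ := fun P => Nat.card (St P)
  have hstmk : ∀ (g : X) (v : Fin 3 → F) (hv : v ≠ 0),
      g ∈ St (Projectivization.mk F v hv) ↔ (g.1 : Matrix (Fin 3) (Fin 3) F) *ᵥ v = v := by
    intro g v hv
    obtain ⟨a, ha⟩ := Projectivization.exists_smul_eq_mk_rep F v hv
    show (g.1 : Matrix (Fin 3) (Fin 3) F) *ᵥ _ = _ ↔ _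
    rw [← ha, Units.smul_def, mulVec_smul]
    exact (smul_right_injective _ a.ne_zero).eq_iff
  -- conjugate stabilisers
  have hkconst : ∀ (g : X) P, k (g • P) = k P := by
    intro g P
    induction P using Projectivization.ind with
    | h v hv =>
      refine Nat.card_congr ((MulAut.conj g⁻¹).toEquiv.subtypeEquiv fun x => ?_)
      show x ∈ St (g • _) ↔ g⁻¹ * x * g⁻¹⁻¹ ∈ St _
      rw [inv_inv, hsmul, hstmk, hstmk, mulVec_mulVec, ← Units.val_mul, Subgroup.coe_mul, Subgroup.coe_mul,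
        Subgroup.coe_inv, Units.val_mul, Units.val_mul (g.1⁻¹ * x.1), Units.val_mul g.1⁻¹, ← mulVec_mulVec,
        ← mulVec_mulVec, ← mulVec_mulVec]
      constructor <;> intro h
      · rw [h, mulVec_mulVec, Units.inv_mul, one_mulVec]
      · have := congrArg (fun u => (g.1 : Matrix (Fin 3) (Fin 3) F) *ᵥ u) h
        rwa [mulVec_mulVec, Units.mul_inv, one_mulVec] at this
  -- the axes
  have hax : ∀ g : {g : X // g ≠ 1}, ∃ P, g.1 ∈ St P := fun g => by
    obtain ⟨w, hw, hgw⟩ := exists_fixed hF h2 hsym hdet hB hX1 hno g.1.2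
    exact ⟨Projectivization.mk F w hw, (hstmk _ _ hw).2 hgw⟩
  choose ax hax using hax
  have hax_iff : ∀ (g : {g : X // g ≠ 1}) P, g.1 ∈ St P ↔ ax g = P := fun g P => by
    refine ⟨fun h => ?_, fun h => h ▸ hax g⟩
    obtain ⟨c, hc⟩ := fixed_smul hF h2 hsym hdet hB hX1 hno g.1.2 (fun h1 => g.2 (Subtype.ext h1))
      (ax g).rep_nonzero (hax g) h
    have hc0 : c ≠ 0 := fun h0 => P.rep_nonzero (by rw [← hc, h0, zero_smul])
    rw [← Projectivization.mk_rep (ax g), ← Projectivization.mk_rep P]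
    rw [Projectivization.mk_eq_mk_iff']
    exact ⟨c⁻¹, by rw [← hc, inv_smul_smul₀ hc0]⟩
  have hfib : ∀ P, ((Finset.univ : Finset {g : X // g ≠ 1}).filter fun g => ax g = P).card = k P - 1 := by
    intro P
    have h : (((Finset.univ : Finset {g : X // g ≠ 1}).filter fun g => ax g = P).image Subtype.val) =
        ((Finset.univ : Finset X).filter fun g => g ∈ St P).erase 1 := by
      ext g
      simp only [Finset.mem_image, Finset.mem_filter, Finset.mem_univ, true_and, Finset.mem_erase]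
      constructor
      · rintro ⟨g, hg, rfl⟩; exact ⟨g.2, (hax_iff g P).2 hg⟩
      · rintro ⟨hg1, hg⟩; exact ⟨⟨g, hg1⟩, (hax_iff ⟨g, hg1⟩ P).1 hg, rfl⟩
    rw [← Finset.card_image_of_injective _ Subtype.val_injective, h,
      Finset.card_erase_of_mem (by simp [(St P).one_mem]), ← Fintype.card_subtype, ← Nat.card_eq_fintype_card]
  set N := Nat.card X with hN
  have htotal : ∑ P, (k P - 1) = N - 1 := by
    rw [← Finset.sum_congr rfl fun P _ => hfib P,
      ← Finset.card_eq_sum_card_fiberwise (f := ax) (t := Finset.univ) (fun x _ => Finset.mem_univ _),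
      Finset.card_univ, Fintype.card_subtype_compl, Fintype.card_subtype_eq, hN, Nat.card_eq_fintype_card]
  have hNpos : 0 < N := Nat.card_pos
  let orb : ℙ F (Fin 3 → F) → Finset (ℙ F (Fin 3 → F)) := fun P => (MulAction.orbit X P).toFinset
  have hmem : ∀ {P Q}, Q ∈ orb P ↔ ∃ g : X, g • P = Q := fun {P Q} => by simp [orb, MulAction.mem_orbit_iff]
  have horb : ∀ P, (2 ≤ k P) → (∑ Q ∈ orb P, (k Q - 1)) = (orb P).card * (k P - 1) ∧
      ∃ e, (e = 1 ∨ e = 2) ∧ (orb P).card * (e * k P) = N := by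
    intro P hk
    refine ⟨?_, ?_⟩
    · rw [Finset.sum_congr rfl fun Q hQ => ?_, Finset.sum_const, smul_eq_mul]
      obtain ⟨g, rfl⟩ := hmem.1 hQ
      rw [hkconst]
    set v := P.rep with hv
    obtain ⟨g₁, hg₁⟩ : ∃ g : St P, g ≠ 1 := by
      haveI : Nontrivial (St P) := Finite.one_lt_card_iff_nontrivial.1 (show 1 < Nat.card (St P) from hk)
      exact exists_ne 1
    have haniso : (B *ᵥ v) ⬝ᵥ v ≠ 0 := anisotropic_fixed hF h2 hsym hdet hB hX1 hno hp g₁.1.2
      (fun h => hg₁ (Subtype.ext (Subtype.ext h))) P.rep_nonzero g₁.2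
    have hst : ∀ g : MulAction.stabilizer X P, ∃ l : Fˣ, (g.1.1 : Matrix (Fin 3) (Fin 3) F) *ᵥ v = (l : F) • v := by
      intro g
      have h := MulAction.mem_stabilizer_iff.1 g.2
      have h' := (hsmul g.1 v P.rep_nonzero).symm.trans
        (((congrArg (g.1 • ·) (show Projectivization.mk F v P.rep_nonzero = P from P.mk_rep)).trans h).trans
          (show P = Projectivization.mk F v P.rep_nonzero from P.mk_rep.symm))
      rw [Projectivization.mk_eq_mk_iff] at h'
      obtain ⟨l, hl⟩ := h'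
      exact ⟨l, hl.symm⟩
    choose χ hχ using hst
    have huniq : ∀ (g : MulAction.stabilizer X P) (l : Fˣ),
        (g.1.1 : Matrix (Fin 3) (Fin 3) F) *ᵥ v = (l : F) • v → χ g = l := fun g l h =>
      Units.ext (smul_left_injective F P.rep_nonzero ((hχ g).symm.trans h))
    let f : MulAction.stabilizer X P →* Fˣ :=
      { toFun := χ
        map_one' := huniq 1 1 (by simp)
        map_mul' := fun a b => huniq _ _ (by
          rw [Subgroup.coe_mul, Subgroup.coe_mul, Units.val_mul, ← mulVec_mulVec, hχ b, mulVec_smul, hχ a,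
            smul_smul, Units.val_mul, mul_comm]) }
    have hrange : ∀ l ∈ f.range, l = 1 ∨ l = -1 := by
      rintro _ ⟨g, rfl⟩
      have h := dot_iso hF h2 hsym hdet hB hX1 hno g.1.2 v v
      rw [hχ g, mulVec_smul, smul_dotProduct, dotProduct_smul, smul_eq_mul, smul_eq_mul, ← mul_assoc] at h
      have h' := (mul_eq_right₀ haniso).1 h
      rcases mul_self_eq_one_iff.1 h' with h' | h'
      · exact Or.inl (Units.ext h')
      · exact Or.inr (Units.ext h')
    have hr : Nat.card f.range = 1 ∨ Nat.card f.range = 2 := by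
      have h0 : 0 < Nat.card f.range := Nat.card_pos
      have hle : Nat.card f.range ≤ 2 := by
        rw [Nat.card_eq_fintype_card, Fintype.card_subtype]
        refine (Finset.card_le_card (t := {1, -1}) fun l hl => ?_).trans Finset.card_le_two
        simpa using hrange l (Finset.mem_filter.1 hl).2
      omega
    have hker : Nat.card f.ker = k P := by
      refine Nat.card_congr ⟨fun g => ⟨g.1.1, ?_⟩, fun g => ⟨⟨g.1, ?_⟩, ?_⟩, fun _ => rfl, fun _ => rfl⟩
      · show (g.1.1.1 : Matrix (Fin 3) (Fin 3) F) *ᵥ v = v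
        rw [hχ g.1, show χ g.1 = 1 from MonoidHom.mem_ker.1 g.2, Units.val_one, one_smul]
      · rw [MulAction.mem_stabilizer_iff]
        refine (congrArg (g.1 • ·) P.mk_rep.symm).trans ?_
        refine (hsmul g.1 v P.rep_nonzero).trans (Eq.trans ?_ P.mk_rep)
        congr 1
        exact g.2
      · exact MonoidHom.mem_ker.2 (huniq _ 1 (by rw [Units.val_one, one_smul]; exact g.2))
    refine ⟨Nat.card f.range, hr, ?_⟩
    rw [← hker, mul_comm (Nat.card f.range), mul_comm (Nat.card f.ker),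
      ← Nat.card_congr (QuotientGroup.quotientKerEquivRange f).toEquiv, ← Subgroup.card_eq_card_quotient_mul_card_subgroup,
      hN, Set.toFinset_card, ← Nat.card_eq_fintype_card, Nat.card_coe_set_eq, ← MulAction.index_stabilizer,
      Subgroup.index_mul_card]
  -- the orbit of the axis of `T`
  have hT1 : T ≠ 1 := fun h => by rw [h, orderOf_one] at hord; omega
  set P₀ := Projectivization.mk F w₀ hw₀
  have hk0 : 6 ≤ k P₀ := by
    refine hord.trans (Nat.le_of_dvd Nat.card_pos ?_)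
    have := orderOf_dvd_natCard (⟨⟨T, hT⟩, (hstmk _ _ hw₀).2 hTw⟩ : St P₀)
    rwa [Subgroup.orderOf_mk, Subgroup.orderOf_mk] at this
  obtain ⟨hsum₀, e₀, he₀, hcard₀⟩ := horb P₀ (by omega)
  have ho : 2 ≤ (orb P₀).card := by
    by_contra hlt
    have hall : ∀ g ∈ X, ∃ c : F, (g : Matrix (Fin 3) (Fin 3) F) *ᵥ w₀ = c • w₀ := fun g hg => by
      have h1 : P₀ ∈ orb P₀ := hmem.2 ⟨1, one_smul _ _⟩
      have h2' : (⟨g, hg⟩ : X) • P₀ ∈ orb P₀ := hmem.2 ⟨_, rfl⟩
      have h := Finset.card_le_one.1 (by omega : (orb P₀).card ≤ 1) _ h2' _ h1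
      rw [hsmul, Projectivization.mk_eq_mk_iff'] at h
      obtain ⟨c, hc⟩ := h
      exact ⟨c, hc.symm⟩
    rcases hirr (Submodule.span F {w₀}) (fun g hg x hx => by
        obtain ⟨a, rfl⟩ := Submodule.mem_span_singleton.1 hx
        obtain ⟨c, hc⟩ := hall g hg
        rw [mulVec_smul, hc, smul_smul]
        exact Submodule.smul_mem _ _ (Submodule.mem_span_singleton_self w₀)) with h | h
    · exact hw₀ (Submodule.span_singleton_eq_bot.1 h)
    · have := finrank_span_singleton (K := F) hw₀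
      rw [h, finrank_top, Module.finrank_fin_fun] at this
      omega
  have hdisj : ∀ {P Q}, Q ∉ orb P → Disjoint (orb P) (orb Q) := fun {P Q} hQ => by
    rw [Finset.disjoint_left]
    intro R hR hR'
    obtain ⟨g, rfl⟩ := hmem.1 hR
    obtain ⟨h, hh⟩ := hmem.1 hR'
    exact hQ (hmem.2 ⟨h⁻¹ * g, by rw [mul_smul, ← hh, inv_smul_smul]⟩)
  have hnext : ∀ U : Finset (ℙ F (Fin 3 → F)), (∀ P ∈ U, orb P ⊆ U) → (∑ Q ∈ U, (k Q - 1)) < N - 1 →
      ∃ P, orb P ⊆ Finset.univ \ U ∧ Disjoint U (orb P) ∧ OrbitTerm N (∑ Q ∈ orb P, (k Q - 1)) := by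
    intro U hU hlt
    obtain ⟨P, hP, hkP⟩ : ∃ P, P ∉ U ∧ 2 ≤ k P := by
      by_contra hn
      push Not at hn
      have : ∑ Q, (k Q - 1) = ∑ Q ∈ U, (k Q - 1) :=
        (Finset.sum_subset (Finset.subset_univ U) fun Q _ hQ => by have := hn Q hQ; omega).symm
      omega
    have hd : Disjoint U (orb P) := by
      rw [Finset.disjoint_right]
      intro R hR hRU
      obtain ⟨g, rfl⟩ := hmem.1 hR
      exact hP (hU _ hRU (hmem.2 ⟨g⁻¹, inv_smul_smul g P⟩))
    obtain ⟨hs, e, he, hc⟩ := horb P hkP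
    refine ⟨P, fun R hR => Finset.mem_sdiff.2 ⟨Finset.mem_univ _, Finset.disjoint_right.1 hd hR⟩, hd, ?_⟩
    rw [hs]
    exact orbitTerm_of he hkP hc hNpos
  have horbclosed : ∀ P, ∀ Q ∈ orb P, orb Q ⊆ orb P := fun P Q hQ R hR => by
    obtain ⟨g, rfl⟩ := hmem.1 hQ
    obtain ⟨h, rfl⟩ := hmem.1 hR
    exact hmem.2 ⟨h * g, mul_smul _ _ _⟩
  have hclosed : ∀ U V : Finset (ℙ F (Fin 3 → F)), (∀ P ∈ U, orb P ⊆ U) → (∀ P ∈ V, orb P ⊆ V) →
      ∀ P ∈ U ∪ V, orb P ⊆ U ∪ V := fun U V hU hV P hP => by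
    rcases Finset.mem_union.1 hP with h | h
    exacts [(hU P h).trans Finset.subset_union_left, (hV P h).trans Finset.subset_union_right]
  have hle : ∀ U : Finset (ℙ F (Fin 3 → F)), (∑ Q ∈ U, (k Q - 1)) ≤ N - 1 := fun U =>
    htotal ▸ Finset.sum_le_sum_of_subset (Finset.subset_univ U)
  set o := (orb P₀).card
  set n := k P₀
  obtain ⟨n', hn'⟩ : ∃ n', n = n' + 6 := ⟨n - 6, by omega⟩
  set c₀ := ∑ Q ∈ orb P₀, (k Q - 1) with hc₀
  have hc₀' : c₀ + o = o * n := by
    rw [hsum₀, hn', show n' + 6 - 1 = n' + 5 by omega]; ring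
  have hn6 : 6 * o ≤ o * n := by rw [mul_comm 6 o]; exact Nat.mul_le_mul_left o (by omega)
  have hbound : o * n = N ∨ 2 * (o * n) = N := by
    rcases he₀ with rfl | rfl
    · exact Or.inl (by rw [← hcard₀, one_mul])
    · exact Or.inr (by rw [← hcard₀]; ring)
  -- a second, a third and a fourth orbit
  have h0 := horbclosed P₀
  have hlt₀ : c₀ < N - 1 := by rcases hbound with h | h <;> omega
  obtain ⟨P₁, -, hd₁, ht₁⟩ := hnext _ h0 hlt₀
  set c₁ := ∑ Q ∈ orb P₁, (k Q - 1)
  have hs₁ : ∑ Q ∈ orb P₀ ∪ orb P₁, (k Q - 1) = c₀ + c₁ := Finset.sum_union hd₁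
  have hle₁ := hle (orb P₀ ∪ orb P₁)
  rw [hs₁] at hle₁
  by_cases hlt₁ : c₀ + c₁ < N - 1
  swap
  · rcases hbound with h | h <;> rcases ht₁ with ht | ht | ht | ht <;> omega
  obtain ⟨P₂, -, hd₂, ht₂⟩ := hnext _ (hclosed _ _ h0 (horbclosed P₁)) (hs₁.symm ▸ hlt₁)
  set c₂ := ∑ Q ∈ orb P₂, (k Q - 1)
  have hs₂ : ∑ Q ∈ orb P₀ ∪ orb P₁ ∪ orb P₂, (k Q - 1) = c₀ + c₁ + c₂ := by rw [Finset.sum_union hd₂, hs₁]
  have hle₂ := hle (orb P₀ ∪ orb P₁ ∪ orb P₂)
  rw [hs₂] at hle₂
  by_cases hlt₂ : c₀ + c₁ + c₂ < N - 1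
  swap
  · rcases hbound with h | h <;> rcases ht₁ with ht | ht | ht | ht <;>
      rcases ht₂ with ht' | ht' | ht' | ht' <;> omega
  obtain ⟨P₃, -, hd₃, ht₃⟩ := hnext _ (hclosed _ _ (hclosed _ _ h0 (horbclosed P₁)) (horbclosed P₂))
    (hs₂.symm ▸ hlt₂)
  have hle₃ := hle (orb P₀ ∪ orb P₁ ∪ orb P₂ ∪ orb P₃)
  rw [Finset.sum_union hd₃, hs₂] at hle₃
  rcases hbound with h | h <;> rcases ht₁ with ht | ht | ht | ht <;>
    rcases ht₂ with ht' | ht' | ht' | ht' <;> rcases ht₃ with ht'' | ht'' | ht'' | ht'' <;> omega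

end

end CfsgLib.SLThree.Hessian
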