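import Cfsg.Agent.SLThree.Homology
import Mathlib.LinearAlgebra.Matrix.Notation

/-!
# The Heisenberg group of order 27 in `GL₃` and its normaliser

Clock and shift matrices, three quaternion elements normalising the group they generate, and the family of
involutions commuting with the central involution of the quaternion group.
-/

set_option autoImplicit false
set_option linter.unusedSectionVars false

namespace CfsgLib.SLThree.Hessian

open Matrix Cfsg.Geo CfsgLib.MaxSub

theorem fin_three_cycle : ∀ x : Fin 3, x + 1 + 1 + 1 = x := by decide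

theorem fin_shift : ∀ p r a b : Fin 3, ((p : ℕ) + b) % 3 = ((a : ℕ) + r) % 3 → p = r + (a - b) := by decide

theorem fin_exp : ∀ i r j : Fin 3,
    (2 * (i : ℕ) * j + i * ((r + j : Fin 3) : ℕ)) % 3 = ((i : ℕ) * r) % 3 := by decide

variable (F : Type*) [Field F]

/-- A primitive cube root of unity, with three invertible. -/
structure Omega where
  w : F
  sum : w ^ 2 + w + 1 = 0
  three : (3 : F) ≠ 0

variable {F} (o : Omega F)

theorem Omega.cube : o.w ^ 3 = 1 := by linear_combination (o.w - 1) * o.sum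

theorem Omega.ne_zero : o.w ≠ 0 := fun h => by have := o.sum; rw [h] at this; simp at this

theorem Omega.ne_one : o.w ≠ 1 := fun h => by
  have := o.sum
  rw [h] at this
  exact o.three (by linear_combination this)

/-- The square root of `-3`. -/
def Omega.s : F := o.w - o.w ^ 2

theorem Omega.s_sq : o.s ^ 2 = -3 := by
  unfold Omega.s; linear_combination (o.w ^ 2 - 3 * o.w + 3) * o.sum

theorem Omega.s_ne : o.s ≠ 0 := fun h => o.three (by
  have := o.s_sq; rw [h] at this; linear_combination this)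

/-- The clock. -/
def clock : GL (Fin 3) F where
  val := !![1, 0, 0; 0, o.w, 0; 0, 0, o.w ^ 2]
  inv := !![1, 0, 0; 0, o.w ^ 2, 0; 0, 0, o.w]
  val_inv := by
    have := o.cube
    ext i j; fin_cases i <;> fin_cases j <;> simp [Matrix.mul_apply, Fin.sum_univ_three] <;> grind
  inv_val := by
    have := o.cube
    ext i j; fin_cases i <;> fin_cases j <;> simp [Matrix.mul_apply, Fin.sum_univ_three] <;> grind

variable (F) in
/-- The shift. -/
def shift : GL (Fin 3) F where
  val := !![0, 0, 1; 1, 0, 0; 0, 1, 0]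
  inv := !![0, 1, 0; 0, 0, 1; 1, 0, 0]
  val_inv := by ext i j; fin_cases i <;> fin_cases j <;> simp [Matrix.mul_apply, Fin.sum_univ_three]
  inv_val := by ext i j; fin_cases i <;> fin_cases j <;> simp [Matrix.mul_apply, Fin.sum_univ_three]

/-- A diagonal element commuting with the clock and normalising the Heisenberg group. -/
def tw : GL (Fin 3) F where
  val := !![1, 0, 0; 0, o.w, 0; 0, 0, o.w]
  inv := !![1, 0, 0; 0, o.w ^ 2, 0; 0, 0, o.w ^ 2]
  val_inv := by
    have := o.cube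
    ext i j; fin_cases i <;> fin_cases j <;> simp [Matrix.mul_apply, Fin.sum_univ_three] <;> grind
  inv_val := by
    have := o.cube
    ext i j; fin_cases i <;> fin_cases j <;> simp [Matrix.mul_apply, Fin.sum_univ_three] <;> grind

/-- The Fourier matrix. -/
def four : GL (Fin 3) F where
  val := o.s⁻¹ • !![1, 1, 1; 1, o.w, o.w ^ 2; 1, o.w ^ 2, o.w]
  inv := o.s⁻¹ • !![-1, -1, -1; -1, -o.w ^ 2, -o.w; -1, -o.w, -o.w ^ 2]
  val_inv := by
    have := o.cube; have := o.sum; have := o.s_sq; have := o.s_ne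
    ext i j; fin_cases i <;> fin_cases j <;>
      simp [Matrix.mul_apply, Fin.sum_univ_three] <;> field_simp <;> grind
  inv_val := by
    have := o.cube; have := o.sum; have := o.s_sq; have := o.s_ne
    ext i j; fin_cases i <;> fin_cases j <;>
      simp [Matrix.mul_apply, Fin.sum_univ_three] <;> field_simp <;> grind

/-- The quaternion elements. -/
def quat (k : ℕ) : GL (Fin 3) F := tw o ^ k * four o * (tw o ^ k)⁻¹

/-- The central involution. -/
def cent : GL (Fin 3) F where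
  val := !![-1, 0, 0; 0, 0, -1; 0, -1, 0]
  inv := !![-1, 0, 0; 0, 0, -1; 0, -1, 0]
  val_inv := by ext i j; fin_cases i <;> fin_cases j <;> simp [Matrix.mul_apply, Fin.sum_univ_three]
  inv_val := by ext i j; fin_cases i <;> fin_cases j <;> simp [Matrix.mul_apply, Fin.sum_univ_three]

theorem cent_mul_self : cent (F := F) * cent = 1 := (cent (F := F)).val_inv |> fun h => Units.ext h

theorem four_sq : four o * four o = cent := by
  have := o.cube; have := o.sum; have := o.s_sq; have := o.s_ne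
  apply Units.ext
  rw [Units.val_mul]
  show (o.s⁻¹ • !![1, 1, 1; 1, o.w, o.w ^ 2; 1, o.w ^ 2, o.w]) * (o.s⁻¹ • !![1, 1, 1; 1, o.w, o.w ^ 2; 1, o.w ^ 2, o.w]) =
    (!![-1, 0, 0; 0, 0, -1; 0, -1, 0] : Matrix (Fin 3) (Fin 3) F)
  ext i j; fin_cases i <;> fin_cases j <;>
    simp [Matrix.mul_apply, Fin.sum_univ_three] <;> field_simp <;> grind

theorem det_clock : (clock o : Matrix (Fin 3) (Fin 3) F).det = 1 := by
  show (!![1, 0, 0; 0, o.w, 0; 0, 0, o.w ^ 2] : Matrix (Fin 3) (Fin 3) F).det = 1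
  rw [det_fin_three]; simp; linear_combination o.cube

theorem det_shift : (shift F : Matrix (Fin 3) (Fin 3) F).det = 1 := by
  show (!![0, 0, 1; 1, 0, 0; 0, 1, 0] : Matrix (Fin 3) (Fin 3) F).det = 1
  rw [det_fin_three]; simp

theorem det_four : (four o : Matrix (Fin 3) (Fin 3) F).det = 1 := by
  show (o.s⁻¹ • !![1, 1, 1; 1, o.w, o.w ^ 2; 1, o.w ^ 2, o.w]).det = 1
  have := o.cube; have := o.sum; have := o.s_sq; have := o.s_ne
  have hs : o.s = o.w - o.w ^ 2 := rfl
  rw [det_smul, Fintype.card_fin, det_fin_three]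
  simp
  field_simp
  grind

theorem det_quat (k : ℕ) : (quat o k : Matrix (Fin 3) (Fin 3) F).det = 1 := by
  rw [quat, Units.val_mul, Units.val_mul, det_units_conj, det_four]

/-! ### The Heisenberg group -/

/-- The Heisenberg group. -/
def heis : Subgroup (GL (Fin 3) F) := Subgroup.closure {clock o, shift F}

theorem clock_mem : clock o ∈ heis o := Subgroup.subset_closure (by simp)
theorem shift_mem : shift F ∈ heis o := Subgroup.subset_closure (by simp)

theorem mem_normalizer_of_gens [Finite F] {g : GL (Fin 3) F} (h1 : g * clock o * g⁻¹ ∈ heis o)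
    (h2 : g * shift F * g⁻¹ ∈ heis o) : g ∈ subgroupNormalizer (heis o) := by
  have hle : (heis o).map (MulAut.conj g).toMonoidHom ≤ heis o := by
    rw [heis, MonoidHom.map_closure, Subgroup.closure_le]
    rintro _ ⟨x, hx, rfl⟩
    rcases hx with rfl | rfl
    exacts [h1, h2]
  have heq : (heis o).map (MulAut.conj g).toMonoidHom = heis o := by
    apply SetLike.coe_injective
    refine Set.eq_of_subset_of_ncard_le hle ?_ (Set.toFinite _)
    rw [Subgroup.coe_map]
    exact (Set.ncard_image_of_injective _ (MulAut.conj g).injective).ge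
  show g ∈ Subgroup.normalizer _
  rw [Subgroup.mem_normalizer_iff]
  intro h
  constructor
  · exact fun hh => hle ⟨h, hh, rfl⟩
  · intro hh
    rw [← heq] at hh
    obtain ⟨x, hx, hxe⟩ := hh
    exact (MulAut.conj g).injective hxe ▸ hx

theorem conj_four_clock : four o * clock o * (four o)⁻¹ = (shift F)⁻¹ := by
  have := o.cube; have := o.sum; have := o.s_sq; have := o.s_ne
  rw [mul_inv_eq_iff_eq_mul]
  apply Units.ext
  rw [Units.val_mul, Units.val_mul]
  show (o.s⁻¹ • !![1, 1, 1; 1, o.w, o.w ^ 2; 1, o.w ^ 2, o.w]) * !![1, 0, 0; 0, o.w, 0; 0, 0, o.w ^ 2] =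
    (!![0, 1, 0; 0, 0, 1; 1, 0, 0] : Matrix (Fin 3) (Fin 3) F) * (o.s⁻¹ • !![1, 1, 1; 1, o.w, o.w ^ 2; 1, o.w ^ 2, o.w])
  ext i j; fin_cases i <;> fin_cases j <;> simp [Matrix.mul_apply, Fin.sum_univ_three] <;> grind

theorem conj_four_shift : four o * shift F * (four o)⁻¹ = clock o := by
  have := o.cube; have := o.sum; have := o.s_sq; have := o.s_ne
  rw [mul_inv_eq_iff_eq_mul]
  apply Units.ext
  rw [Units.val_mul, Units.val_mul]
  show (o.s⁻¹ • !![1, 1, 1; 1, o.w, o.w ^ 2; 1, o.w ^ 2, o.w]) * !![0, 0, 1; 1, 0, 0; 0, 1, 0] =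
    (!![1, 0, 0; 0, o.w, 0; 0, 0, o.w ^ 2] : Matrix (Fin 3) (Fin 3) F) * (o.s⁻¹ • !![1, 1, 1; 1, o.w, o.w ^ 2; 1, o.w ^ 2, o.w])
  ext i j; fin_cases i <;> fin_cases j <;> simp [Matrix.mul_apply, Fin.sum_univ_three] <;> grind

theorem conj_tw_clock : tw o * clock o * (tw o)⁻¹ = clock o := by
  rw [mul_inv_eq_iff_eq_mul]
  apply Units.ext
  rw [Units.val_mul, Units.val_mul]
  show !![1, 0, 0; 0, o.w, 0; 0, 0, o.w] * !![1, 0, 0; 0, o.w, 0; 0, 0, o.w ^ 2] =
    (!![1, 0, 0; 0, o.w, 0; 0, 0, o.w ^ 2] : Matrix (Fin 3) (Fin 3) F) * !![1, 0, 0; 0, o.w, 0; 0, 0, o.w]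
  ext i j; fin_cases i <;> fin_cases j <;> simp [Matrix.mul_apply, Fin.sum_univ_three] <;> ring

theorem conj_tw_shift : tw o * shift F * (tw o)⁻¹ = clock o * shift F * clock o := by
  have := o.cube
  rw [mul_inv_eq_iff_eq_mul]
  apply Units.ext
  rw [Units.val_mul, Units.val_mul, Units.val_mul, Units.val_mul]
  show !![1, 0, 0; 0, o.w, 0; 0, 0, o.w] * !![0, 0, 1; 1, 0, 0; 0, 1, 0] =
    (!![1, 0, 0; 0, o.w, 0; 0, 0, o.w ^ 2] : Matrix (Fin 3) (Fin 3) F) * !![0, 0, 1; 1, 0, 0; 0, 1, 0] *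
      !![1, 0, 0; 0, o.w, 0; 0, 0, o.w ^ 2] * !![1, 0, 0; 0, o.w, 0; 0, 0, o.w]
  ext i j; fin_cases i <;> fin_cases j <;> simp [Matrix.mul_apply, Fin.sum_univ_three] <;> grind

theorem quat_mem_normalizer [Finite F] (k : ℕ) : quat o k ∈ subgroupNormalizer (heis o) := by
  have h4 : four o ∈ subgroupNormalizer (heis o) := mem_normalizer_of_gens o
    (by rw [conj_four_clock]; exact (heis o).inv_mem (shift_mem o))
    (by rw [conj_four_shift]; exact clock_mem o)
  have ht : tw o ∈ subgroupNormalizer (heis o) := mem_normalizer_of_gens o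
    (by rw [conj_tw_clock]; exact clock_mem o)
    (by rw [conj_tw_shift]; exact (heis o).mul_mem ((heis o).mul_mem (clock_mem o) (shift_mem o)) (clock_mem o))
  exact Subgroup.mul_mem _ (Subgroup.mul_mem _ (Subgroup.pow_mem _ ht k) h4)
    (Subgroup.inv_mem _ (Subgroup.pow_mem _ ht k))

theorem heis_le_normalizer : heis o ≤ subgroupNormalizer (heis o) := Subgroup.le_normalizer

/-- Scaled by conjugation with clock and shift. -/
def Eig (X : Matrix (Fin 3) (Fin 3) F) : Prop :=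
  (∃ l : F, (clock o : Matrix (Fin 3) (Fin 3) F) * X = l • (X * (clock o : Matrix (Fin 3) (Fin 3) F))) ∧
    ∃ l : F, (shift F : Matrix (Fin 3) (Fin 3) F) * X = l • (X * (shift F : Matrix (Fin 3) (Fin 3) F))

/-- The multiples of the products of powers of clock and shift. -/
def Mo (X : Matrix (Fin 3) (Fin 3) F) : Prop :=
  ∃ (c : F) (i j : Fin 3), X = c • ((clock o ^ (i : ℕ) * shift F ^ (j : ℕ) : GL (Fin 3) F) : Matrix (Fin 3) (Fin 3) F)

theorem mo_val (i j : Fin 3) : ((clock o ^ (i : ℕ) * shift F ^ (j : ℕ) : GL (Fin 3) F) : Matrix (Fin 3) (Fin 3) F) =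
    Matrix.of fun p r => if p = r + j then o.w ^ ((i : ℕ) * (p : ℕ)) else 0 := by
  have hc := o.cube
  rw [Units.val_mul, Units.val_pow_eq_pow_val, Units.val_pow_eq_pow_val]
  show (!![1, 0, 0; 0, o.w, 0; 0, 0, o.w ^ 2] : Matrix (Fin 3) (Fin 3) F) ^ (i : ℕ) *
    (!![0, 0, 1; 1, 0, 0; 0, 1, 0] : Matrix (Fin 3) (Fin 3) F) ^ (j : ℕ) = _
  ext p r
  fin_cases i <;> fin_cases j <;> fin_cases p <;> fin_cases r <;>
    simp [pow_two, Matrix.mul_apply, Fin.sum_univ_three] <;> ring

theorem mo_of_eig {X : Matrix (Fin 3) (Fin 3) F} (h : Eig o X) (hX : X ≠ 0) : Mo o X := by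
  obtain ⟨⟨l, hl⟩, m, hm⟩ := h
  have hc := o.cube
  have e1 : ∀ p r : Fin 3, o.w ^ (p : ℕ) * X p r = l * (X p r * o.w ^ (r : ℕ)) := fun p r => by
    have := congrFun (congrFun hl p) r
    simp only [show (clock o : Matrix (Fin 3) (Fin 3) F) = Matrix.diagonal (fun x : Fin 3 => o.w ^ (x : ℕ)) from by
      show (!![1, 0, 0; 0, o.w, 0; 0, 0, o.w ^ 2] : Matrix (Fin 3) (Fin 3) F) = _
      ext a b; fin_cases a <;> fin_cases b <;> simp, diagonal_mul, Matrix.smul_apply, mul_diagonal, smul_eq_mul] at this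
    exact this
  have e2 : ∀ p r : Fin 3, X p r = m * X (p + 1) (r + 1) := fun p r => by
    have := congrFun (congrFun hm (p + 1)) r
    rw [show (shift F : Matrix (Fin 3) (Fin 3) F) = !![0, 0, 1; 1, 0, 0; 0, 1, 0] from rfl] at this
    fin_cases p <;> fin_cases r <;>
      simpa [Matrix.mul_apply, Fin.sum_univ_three] using this
  obtain ⟨p₀, r₀, h0⟩ : ∃ p r, X p r ≠ 0 := by
    by_contra hn
    push Not at hn
    exact hX (Matrix.ext hn)
  have hm0 : m ≠ 0 := fun h => h0 (by rw [e2 p₀ r₀, h, zero_mul])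
  have hm3 : m ^ 3 = 1 := by
    have h1 := e2 p₀ r₀
    rw [e2 (p₀ + 1) (r₀ + 1), e2 (p₀ + 1 + 1) (r₀ + 1 + 1),
      fin_three_cycle p₀, fin_three_cycle r₀] at h1
    exact mul_right_cancel₀ h0 (by linear_combination -h1)
  obtain ⟨i, hi⟩ : ∃ i : Fin 3, o.w ^ (i : ℕ) * m = 1 := by
    have : (m - 1) * (m - o.w) * (m - o.w ^ 2) = 0 := by
      linear_combination hm3 - m * (m - o.w) * o.sum - o.cube
    rcases mul_eq_zero.1 this with h | h
    · rcases mul_eq_zero.1 h with h | h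
      · exact ⟨0, by simpa using sub_eq_zero.1 h⟩
      · exact ⟨2, by rw [sub_eq_zero.1 h, ← pow_succ]; exact hc⟩
    · exact ⟨1, by rw [sub_eq_zero.1 h, ← pow_add]; exact hc⟩
  refine ⟨X (p₀ - r₀) 0 * o.w ^ (2 * (i : ℕ) * ((p₀ - r₀ : Fin 3) : ℕ)), i, p₀ - r₀, ?_⟩
  have hlw : o.w ^ (p₀ : ℕ) = l * o.w ^ (r₀ : ℕ) := mul_right_cancel₀ h0 (by linear_combination e1 p₀ r₀)
  have hsupp : ∀ p r : Fin 3, p ≠ r + (p₀ - r₀) → X p r = 0 := by
    intro p r hne
    by_contra hne0
    have h1 : o.w ^ (p : ℕ) = l * o.w ^ (r : ℕ) := mul_right_cancel₀ hne0 (by linear_combination e1 p r)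
    have h2 : o.w ^ ((p : ℕ) + r₀) = o.w ^ ((p₀ : ℕ) + r) := by
      rw [pow_add, pow_add, h1, hlw]; ring
    have hinj : ∀ a b : ℕ, o.w ^ a = o.w ^ b → a % 3 = b % 3 := by
      intro a b hab
      rw [pow_eq_pow_mod a hc, pow_eq_pow_mod b hc] at hab
      have h1' := o.ne_one
      have h0' := o.ne_zero
      have ha : a % 3 < 3 := Nat.mod_lt _ (by norm_num)
      have hb : b % 3 < 3 := Nat.mod_lt _ (by norm_num)
      generalize a % 3 = a' at ha hab ⊢
      generalize b % 3 = b' at hb hab ⊢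
      have hsum' := o.sum
      interval_cases a' <;> interval_cases b' <;> first | rfl | (exfalso; grind)
    have h3 := hinj _ _ h2
    exact hne (fin_shift p r p₀ r₀ h3)
  ext p r
  rw [Matrix.smul_apply, mo_val, of_apply, smul_eq_mul]
  by_cases hp : p = r + (p₀ - r₀)
  · rw [if_pos hp, hp]
    generalize p₀ - r₀ = j
    have hwm : ∀ a b, X a b = o.w ^ (i : ℕ) * X (a - 1) (b - 1) := fun a b => by
      rw [e2 (a - 1) (b - 1), sub_add_cancel, sub_add_cancel, ← mul_assoc, hi, one_mul]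
    have key : ∀ r' : Fin 3, X (r' + j) r' = o.w ^ ((i : ℕ) * (r' : ℕ)) * X j 0 := by
      intro r'
      fin_cases r'
      · simp
      · show X (1 + j) 1 = o.w ^ ((i : ℕ) * 1) * X j 0
        rw [hwm (1 + j) 1, add_sub_cancel_left, sub_self, mul_one]
      · show X (2 + j) 2 = o.w ^ ((i : ℕ) * 2) * X j 0
        rw [hwm (2 + j) 2, hwm (2 + j - 1) (2 - 1),
          show (2 : Fin 3) + j - 1 - 1 = j by rw [sub_sub]; simp, show (2 : Fin 3) - 1 - 1 = 0 by decide,
          ← mul_assoc, ← pow_add, mul_two]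
    rw [key r]
    rw [mul_assoc, ← pow_add, mul_comm]
    congr 1
    rw [pow_eq_pow_mod _ hc, pow_eq_pow_mod (2 * (i : ℕ) * _ + _) hc, fin_exp i r j]
  · rw [if_neg hp, hsupp p r hp, mul_zero]

theorem eig_of_mem {x : GL (Fin 3) F} (hx : x ∈ heis o) : Eig o (x : Matrix (Fin 3) (Fin 3) F) := by
  have hc := o.cube
  induction hx using Subgroup.closure_induction with
  | mem y hy =>
    rcases hy with rfl | rfl
    · refine ⟨⟨1, by simp⟩, o.w ^ 2, ?_⟩
      show (!![0, 0, 1; 1, 0, 0; 0, 1, 0] : Matrix (Fin 3) (Fin 3) F) * !![1, 0, 0; 0, o.w, 0; 0, 0, o.w ^ 2] =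
        o.w ^ 2 • (!![1, 0, 0; 0, o.w, 0; 0, 0, o.w ^ 2] * !![0, 0, 1; 1, 0, 0; 0, 1, 0])
      ext i j; fin_cases i <;> fin_cases j <;> simp [Matrix.mul_apply, Fin.sum_univ_three] <;> grind
    · refine ⟨⟨o.w, ?_⟩, 1, by simp⟩
      show !![1, 0, 0; 0, o.w, 0; 0, 0, o.w ^ 2] * (!![0, 0, 1; 1, 0, 0; 0, 1, 0] : Matrix (Fin 3) (Fin 3) F) =
        o.w • (!![0, 0, 1; 1, 0, 0; 0, 1, 0] * !![1, 0, 0; 0, o.w, 0; 0, 0, o.w ^ 2])
      ext i j; fin_cases i <;> fin_cases j <;> simp [Matrix.mul_apply, Fin.sum_univ_three] <;> grind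
  | one => exact ⟨⟨1, by simp⟩, 1, by simp⟩
  | mul y z _ _ hy hz =>
    obtain ⟨⟨l, hl⟩, m, hm⟩ := hy
    obtain ⟨⟨l', hl'⟩, m', hm'⟩ := hz
    refine ⟨⟨l * l', ?_⟩, m * m', ?_⟩
    · rw [Units.val_mul, ← mul_assoc, hl, smul_mul_assoc, mul_assoc, hl', mul_smul_comm, smul_smul, mul_assoc]
    · rw [Units.val_mul, ← mul_assoc, hm, smul_mul_assoc, mul_assoc, hm', mul_smul_comm, smul_smul, mul_assoc]
  | inv y _ hy =>
    obtain ⟨⟨l, hl⟩, m, hm⟩ := hy
    have key : ∀ (d : GL (Fin 3) F) (k : F), (d : Matrix (Fin 3) (Fin 3) F) * (y : Matrix (Fin 3) (Fin 3) F) =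
        k • ((y : Matrix (Fin 3) (Fin 3) F) * d) → ∃ k' : F, (d : Matrix (Fin 3) (Fin 3) F) * ((y⁻¹ : GL (Fin 3) F) : Matrix (Fin 3) (Fin 3) F) =
          k' • (((y⁻¹ : GL (Fin 3) F) : Matrix (Fin 3) (Fin 3) F) * d) := by
      intro d k h
      have hk : k ≠ 0 := fun h0 => by
        rw [h0, zero_smul, ← Units.val_mul] at h
        exact (d * y).ne_zero h
      refine ⟨k⁻¹, ?_⟩
      have h' := congrArg (fun Z => ((y⁻¹ : GL (Fin 3) F) : Matrix (Fin 3) (Fin 3) F) * Z *
        ((y⁻¹ : GL (Fin 3) F) : Matrix (Fin 3) (Fin 3) F)) h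
      simp only [mul_smul_comm, smul_mul_assoc, mul_assoc, Units.mul_inv, mul_one, Units.inv_mul_cancel_left] at h'
      rw [h', inv_smul_smul₀ hk]
    exact ⟨key _ _ hl, key _ _ hm⟩

theorem scalar_mem {g : GL (Fin 3) F} (h : (g : Matrix (Fin 3) (Fin 3) F) = o.w • 1) : g ∈ heis o := by
  have e : clock o * shift F * (clock o)⁻¹ * (shift F)⁻¹ = g := by
    rw [mul_inv_eq_iff_eq_mul, mul_inv_eq_iff_eq_mul]
    apply Units.ext
    rw [Units.val_mul, Units.val_mul, Units.val_mul, h]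
    show !![1, 0, 0; 0, o.w, 0; 0, 0, o.w ^ 2] * (!![0, 0, 1; 1, 0, 0; 0, 1, 0] : Matrix (Fin 3) (Fin 3) F) =
        o.w • 1 * !![0, 0, 1; 1, 0, 0; 0, 1, 0] * !![1, 0, 0; 0, o.w, 0; 0, 0, o.w ^ 2]
    have := o.cube
    ext i j; fin_cases i <;> fin_cases j <;> simp [Matrix.mul_apply, Fin.sum_univ_three] <;> grind
  rw [← e]
  exact (heis o).mul_mem ((heis o).mul_mem ((heis o).mul_mem (clock_mem o) (shift_mem o))
    ((heis o).inv_mem (clock_mem o))) ((heis o).inv_mem (shift_mem o))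

theorem cube_mo (i j : Fin 3) : (clock o ^ (i : ℕ) * shift F ^ (j : ℕ) : GL (Fin 3) F) ^ 3 = 1 := by
  apply Units.ext
  rw [Units.val_pow_eq_pow_val, mo_val, Units.val_one, pow_succ, pow_two]
  have hc := o.cube
  ext p r
  fin_cases i <;> fin_cases j <;> fin_cases p <;> fin_cases r <;>
    simp [Matrix.mul_apply, Fin.sum_univ_three] <;> grind

/-- Elements of order three which are multiples of such products are in the group. -/
theorem mem_of_mo {g : GL (Fin 3) F} (h : Mo o (g : Matrix (Fin 3) (Fin 3) F)) (h3 : g ^ 3 = 1) : g ∈ heis o := by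
  obtain ⟨c, i, j, hg⟩ := h
  set W := clock o ^ (i : ℕ) * shift F ^ (j : ℕ)
  have hW : W ∈ heis o := (heis o).mul_mem ((heis o).pow_mem (clock_mem o) _) ((heis o).pow_mem (shift_mem o) _)
  have hsc : (g * W⁻¹ : GL (Fin 3) F).1 = c • 1 := by
    rw [Units.val_mul, hg, smul_mul_assoc, Units.mul_inv]
  have hc3 : c ^ 3 = 1 := by
    have h1 := congrArg Units.val h3
    rw [Units.val_pow_eq_pow_val, hg, smul_pow, ← Units.val_pow_eq_pow_val, cube_mo o i j, Units.val_one] at h1
    have h2 := congrFun (congrFun h1 0) 0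
    simpa using h2
  have hmem : g * W⁻¹ ∈ heis o := by
    have : (c - 1) * (c - o.w) * (c - o.w ^ 2) = 0 := by
      linear_combination hc3 - c * (c - o.w) * o.sum - o.cube
    rcases mul_eq_zero.1 this with h' | h'
    · rcases mul_eq_zero.1 h' with h' | h'
      · rw [sub_eq_zero.1 h', one_smul] at hsc
        rw [show g * W⁻¹ = 1 from Units.ext hsc]
        exact (heis o).one_mem
      · exact scalar_mem o (by rw [hsc, sub_eq_zero.1 h'])
    · rw [show g * W⁻¹ = (g * W⁻¹)⁻¹⁻¹ by rw [inv_inv]]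
      refine (heis o).inv_mem (scalar_mem o (Units.inv_eq_of_mul_eq_one_right ?_))
      rw [hsc, sub_eq_zero.1 h', smul_mul_assoc, one_mul, smul_smul, ← pow_succ, o.cube, one_smul]
  simpa using (heis o).mul_mem hmem hW

/-- Some transvection does not normalise the group. -/
theorem exists_not_normalises : ∃ t ∈ specialLinear (Fin 3) F, t ∉ subgroupNormalizer (heis o) := by
  have hdot : (Pi.single 1 1 : Fin 3 → F) ⬝ᵥ Pi.single 0 1 = 0 := by simp
  refine ⟨tv (Pi.single 0 1) (Pi.single 1 1), tv_mem_specialLinear _ _, fun hn => ?_⟩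
  have hx := (Subgroup.mem_normalizer_iff.1 (show tv (Pi.single 0 1) (Pi.single 1 1) ∈
    Subgroup.normalizer (heis o : Set (GL (Fin 3) F)) from hn) (clock o)).1 (clock_mem o)
  set X := tv (Pi.single (0 : Fin 3) (1 : F)) (Pi.single 1 1) * clock o * (tv (Pi.single 0 1) (Pi.single 1 1))⁻¹
  obtain ⟨c, i, j, hX⟩ := mo_of_eig o (eig_of_mem o hx) X.ne_zero
  have hv : (X : Matrix (Fin 3) (Fin 3) F) = !![1, o.w - 1, 0; 0, o.w, 0; 0, 0, o.w ^ 2] := by
    rw [show (X : Matrix (Fin 3) (Fin 3) F) = _ from Units.val_mul _ _, Units.val_mul, tv_inv,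
      tv_coe hdot, tv_coe (by simp)]
    show _ * !![1, 0, 0; 0, o.w, 0; 0, 0, o.w ^ 2] * _ = _
    ext a b; fin_cases a <;> fin_cases b <;>
      simp [Matrix.mul_apply, Fin.sum_univ_three, vecMulVec_apply] <;> ring
  rw [mo_val] at hX
  have h00 := congrFun (congrFun (hv.symm.trans hX) 0) 0
  have h01 := congrFun (congrFun (hv.symm.trans hX) 0) 1
  have h1 := o.ne_one
  fin_cases j <;> simp_all [sub_eq_zero]

/-! ### Involutions commuting with the central one -/

/-- The family. -/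
def refl (A B C : F) : Matrix (Fin 3) (Fin 3) F :=
  let p := -(A + B + C) / 3
  let q := -(A + o.w ^ 2 * B + o.w * C) / 3
  let c := -(A + o.w * B + o.w ^ 2 * C) / 3
  let d := -(1 + p) / 2
  !![p, q, q; c, d, d + 1; c, d + 1, d]

variable (h2 : (2 : F) ≠ 0)

include h2

theorem cent_refl (A B C : F) : (cent : GL (Fin 3) F).1 * refl o A B C = refl o (-A) (-B) (-C) := by
  show (!![-1, 0, 0; 0, 0, -1; 0, -1, 0] : Matrix (Fin 3) (Fin 3) F) * refl o A B C = _
  have := o.three
  ext i j; fin_cases i <;> fin_cases j <;> simp [refl, Matrix.mul_apply, Fin.sum_univ_three] <;> field_simp <;> ring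

theorem four_refl (A B C : F) : (four o).1 * refl o A B C = refl o A (-B) (-C) * (four o).1 := by
  have := o.cube; have := o.sum; have := o.s_ne; have := o.three
  show (o.s⁻¹ • !![1, 1, 1; 1, o.w, o.w ^ 2; 1, o.w ^ 2, o.w]) * refl o A B C =
    refl o A (-B) (-C) * (o.s⁻¹ • !![1, 1, 1; 1, o.w, o.w ^ 2; 1, o.w ^ 2, o.w])
  ext i j; fin_cases i <;> fin_cases j <;> simp [refl, Matrix.mul_apply, Fin.sum_univ_three] <;> field_simp <;> grind

theorem tw_refl (A B C : F) : (tw o).1 * refl o A B C = refl o C A B * (tw o).1 := by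
  have := o.cube; have := o.sum; have := o.three
  show !![1, 0, 0; 0, o.w, 0; 0, 0, o.w] * refl o A B C = refl o C A B * !![1, 0, 0; 0, o.w, 0; 0, 0, o.w]
  ext i j; fin_cases i <;> fin_cases j <;> simp [refl, Matrix.mul_apply, Fin.sum_univ_three] <;> field_simp <;> grind

theorem trace_conj_cent_refl (A B C : F) :
    ((clock o * cent * (clock o)⁻¹ : GL (Fin 3) F).1 * refl o A B C).trace = (1 + (A + B + C)) / 2 := by
  have := o.cube; have := o.sum; have := o.three
  rw [Units.val_mul, Units.val_mul]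
  show (!![1, 0, 0; 0, o.w, 0; 0, 0, o.w ^ 2] * (!![-1, 0, 0; 0, 0, -1; 0, -1, 0] : Matrix (Fin 3) (Fin 3) F) *
    !![1, 0, 0; 0, o.w ^ 2, 0; 0, 0, o.w] * refl o A B C).trace = _
  simp [refl, Matrix.mul_apply, Fin.sum_univ_three, Matrix.trace_fin_three]
  field_simp
  grind

theorem refl_mul_refl_mul (A B C A' B' C' : F) (h : A ^ 2 + B ^ 2 + C ^ 2 = 3) :
    refl o A B C * refl o A' B' C' * refl o A B C =
      refl o (2 * (A * A' + B * B' + C * C') / 3 * A - A') (2 * (A * A' + B * B' + C * C') / 3 * B - B')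
        (2 * (A * A' + B * B' + C * C') / 3 * C - C') := by
  have := o.cube; have := o.sum; have := o.three
  ext i j; fin_cases i <;> fin_cases j <;> simp [refl, Matrix.mul_apply, Fin.sum_univ_three] <;> field_simp <;> grind

/-- An involution commuting with the central one and acting as it does not on its centre is in the family. -/
theorem exists_refl_eq {r : Matrix (Fin 3) (Fin 3) F} (hcomm : cent.1 * r = r * cent.1) (hsq : r * r = 1)
    (htr : r.trace = -1) (hfix : r 1 1 - r 1 2 = -1) :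
    ∃ A B C : F, A ^ 2 + B ^ 2 + C ^ 2 = 3 ∧ r = refl o A B C := by
  have h := fun i j => congrFun (congrFun (show (!![-1, 0, 0; 0, 0, -1; 0, -1, 0] : Matrix (Fin 3) (Fin 3) F) * r =
    r * !![-1, 0, 0; 0, 0, -1; 0, -1, 0] from hcomm) i) j
  have h01 : r 0 1 = r 0 2 := by simpa [Matrix.mul_apply, Fin.sum_univ_three] using h 0 1
  have h10 : r 2 0 = r 1 0 := by simpa [Matrix.mul_apply, Fin.sum_univ_three] using h 1 0
  have h11 : r 2 1 = r 1 2 := by simpa [Matrix.mul_apply, Fin.sum_univ_three] using h 1 1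
  have h12 : r 2 2 = r 1 1 := by simpa [Matrix.mul_apply, Fin.sum_univ_three] using h 1 2
  have h00 := congrFun (congrFun hsq 0) 0
  simp only [Matrix.mul_apply, Fin.sum_univ_three, Matrix.one_apply_eq] at h00
  rw [Matrix.trace_fin_three] at htr
  have := o.cube; have := o.sum; have := o.three
  refine ⟨-(r 0 0 + r 0 1 + r 1 0), -(r 0 0 + o.w * r 0 1 + o.w ^ 2 * r 1 0),
    -(r 0 0 + o.w ^ 2 * r 0 1 + o.w * r 1 0), by grind, ?_⟩
  ext i j; fin_cases i <;> fin_cases j <;> simp [refl] <;> field_simp <;> grind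

end CfsgLib.SLThree.Hessian
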