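import Cfsg.Agent.SLThree.Homology
import Mathlib.LinearAlgebra.Matrix.Notation
import Mathlib.LinearAlgebra.Matrix.Charpoly.Coeff

/-!
# An irreducible group of isometries of a form with an element of order `p`

For a prime field it contains the adjoint image of `SL₂`, so without transvections every homology has the
axis polar to its centre.
-/

set_option autoImplicit false
set_option linter.unusedSectionVars false

namespace CfsgLib.SLThree.Hessian

open Matrix Cfsg.Geo CfsgLib.MaxSub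

variable {F : Type*} [Field F]

/-- The adjoint action. -/
def rho (a b c d : F) : Matrix (Fin 3) (Fin 3) F :=
  !![a ^ 2, -2 * a * b, -b ^ 2; -a * c, a * d + b * c, b * d; -c ^ 2, 2 * c * d, d ^ 2]

theorem rho_mul (a b c d a' b' c' d' : F) : rho a b c d * rho a' b' c' d' =
    rho (a * a' + b * c') (a * b' + b * d') (c * a' + d * c') (c * b' + d * d') := by
  ext i j; fin_cases i <;> fin_cases j <;> simp [rho, Matrix.mul_apply, Fin.sum_univ_three] <;> ring

theorem rho_one : rho (1 : F) 0 0 1 = 1 := by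
  ext i j; fin_cases i <;> fin_cases j <;> simp [rho]

variable (F) in
/-- Its form. -/
def adjForm : Matrix (Fin 3) (Fin 3) F := !![0, 0, 2⁻¹; 0, 1, 0; 2⁻¹, 0, 0]

/-- Membership as matrices. -/
def MatIn (M : Subgroup (GL (Fin 3) F)) (A : Matrix (Fin 3) (Fin 3) F) : Prop :=
  ∃ g ∈ M, (g : Matrix (Fin 3) (Fin 3) F) = A

theorem MatIn.mul {M : Subgroup (GL (Fin 3) F)} {A B : Matrix (Fin 3) (Fin 3) F} (hA : MatIn M A)
    (hB : MatIn M B) : MatIn M (A * B) := by
  obtain ⟨g, hg, rfl⟩ := hA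
  obtain ⟨h, hh, rfl⟩ := hB
  exact ⟨g * h, M.mul_mem hg hh, Units.val_mul g h⟩

variable [Fintype F] {p : ℕ} [Fact p.Prime] (hF : Fintype.card F = p) (h2 : (2 : F) ≠ 0) (h3 : (3 : F) ≠ 0)

include hF

theorem exists_natCast (a : F) : ∃ n : ℕ, (n : F) = a := by
  haveI : CharP F p := charP_of_card_eq_prime hF
  obtain ⟨k, hk⟩ := (ZMod.castHom_bijective F hF).surjective a
  exact ⟨k.val, by rw [← map_natCast (ZMod.castHom dvd_rfl F), ZMod.natCast_zmod_val, hk]⟩

variable {M : Subgroup (GL (Fin 3) F)}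

theorem upper_all {c : F} (hc : c ≠ 0) (h : MatIn M (rho 1 c 0 1)) (t : F) : MatIn M (rho 1 t 0 1) := by
  have hn : ∀ n : ℕ, MatIn M (rho 1 ((n : F) * c) 0 1) := by
    intro n
    induction n with
    | zero => exact ⟨1, M.one_mem, by rw [Nat.cast_zero, zero_mul, rho_one]; rfl⟩
    | succ n ih =>
      have := ih.mul h
      rw [rho_mul] at this
      convert this using 2 <;> push_cast <;> ring
  obtain ⟨n, hn'⟩ := exists_natCast hF (t / c)
  have := hn n
  rwa [hn', div_mul_cancel₀ _ hc] at this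

theorem lower_all {c : F} (hc : c ≠ 0) (h : MatIn M (rho 1 0 c 1)) (t : F) : MatIn M (rho 1 0 t 1) := by
  have hn : ∀ n : ℕ, MatIn M (rho 1 0 ((n : F) * c) 1) := by
    intro n
    induction n with
    | zero => exact ⟨1, M.one_mem, by rw [Nat.cast_zero, zero_mul, rho_one]; rfl⟩
    | succ n ih =>
      have := ih.mul h
      rw [rho_mul] at this
      convert this using 2 <;> push_cast <;> ring
  obtain ⟨n, hn'⟩ := exists_natCast hF (t / c)
  have := hn n
  rwa [hn', div_mul_cancel₀ _ hc] at this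

theorem rho_mem {c₁ c₂ : F} (hc₁ : c₁ ≠ 0) (hc₂ : c₂ ≠ 0) (hU : MatIn M (rho 1 c₁ 0 1))
    (hL : MatIn M (rho 1 0 c₂ 1)) {a b c d : F} (hdet : a * d - b * c = 1) : MatIn M (rho a b c d) := by
  have key : ∀ a b c d : F, a * d - b * c = 1 → c ≠ 0 → MatIn M (rho a b c d) := by
    intro a b c d hdet hc
    have := ((upper_all hF hc₁ hU ((a - 1) / c)).mul (lower_all hF hc₂ hL c)).mul (upper_all hF hc₁ hU ((d - 1) / c))
    rw [rho_mul, rho_mul] at this
    have e : b = (a * d - 1) / c := by field_simp; linear_combination -hdet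
    convert this using 2 <;> field_simp
    all_goals first | ring1 | (rw [e]; field_simp; ring)
  by_cases hc : c = 0
  · have ha : a ≠ 0 := fun h => by rw [h, hc] at hdet; simp at hdet
    have := (lower_all hF hc₂ hL (-1)).mul (key a b a (b + d) (by rw [hc] at hdet; linear_combination hdet) ha)
    rw [rho_mul] at this
    convert this using 2 <;> rw [hc] at * <;> ring
  · exact key a b c d hdet hc

include h2 h3

/-- With the two unipotents of the adjoint group, axes are polar to centres. -/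
theorem axis_polar_standard (hno : NoFlag M) {c₁ c₂ : F} (hc₁ : c₁ ≠ 0) (hc₂ : c₂ ≠ 0)
    (hU : MatIn M (rho 1 c₁ 0 1)) (hL : MatIn M (rho 1 0 c₂ 1)) {x f : Fin 3 → F} (h : Hom M x f) :
    ∃ μ : F, f = μ • (adjForm F *ᵥ x) := by
  set q := x 1 ^ 2 + x 0 * x 2 with hq
  obtain ⟨α, β, hβ, hab⟩ : ∃ α β : F, β ≠ 0 ∧ α ^ 2 - q * β ^ 2 = 1 := by
    by_cases hq0 : q = 0
    · exact ⟨1, 1, one_ne_zero, by rw [hq0]; ring⟩
    obtain ⟨t, ht0, htq⟩ : ∃ t : F, t ≠ 0 ∧ t ^ 2 - q ≠ 0 := by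
      by_cases h1 : q = 1
      · exact ⟨2, h2, fun e => h3 (by rw [h1] at e; linear_combination e)⟩
      · exact ⟨1, one_ne_zero, fun e => h1 (by linear_combination -e)⟩
    refine ⟨1 + t * (-2 * t / (t ^ 2 - q)), -2 * t / (t ^ 2 - q), ?_, ?_⟩
    · exact div_ne_zero (mul_ne_zero (neg_ne_zero.2 h2) ht0) htq
    · field_simp; ring
  obtain ⟨g, hg, hgv⟩ := rho_mem hF hc₁ hc₂ hU hL (a := α + β * x 1) (b := β * x 0) (c := β * x 2)
    (d := α - β * x 1) (by rw [hq] at hab; linear_combination hab)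
  have hfix : (g : Matrix (Fin 3) (Fin 3) F) *ᵥ x = x := by
    rw [hgv]
    funext i
    fin_cases i <;> simp [rho, mulVec, dotProduct, Fin.sum_univ_three] <;> rw [hq] at hab <;>
      [linear_combination x 0 * hab; linear_combination x 1 * hab; linear_combination x 2 * hab]
  have h' := h.conj hg
  rw [hfix] at h'
  have hf := h.axis_unique h2 hno h'
  have hf' : f ᵥ* (g : Matrix (Fin 3) (Fin 3) F) = f := by
    conv_lhs => rw [hf, vecMul_vecMul, Units.inv_mul, vecMul_one]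
  rw [hgv] at hf'
  set a := α + β * x 1
  set b := β * x 0
  set c := β * x 2
  set d := α - β * x 1
  have hdet : a * d - b * c = 1 := by rw [hq] at hab; linear_combination hab
  have e0 := congrFun hf' 0
  have e1 := congrFun hf' 1
  have e2 := congrFun hf' 2
  simp [rho, vecMul, dotProduct, Fin.sum_univ_three] at e0 e1 e2
  have hfx : f 0 * x 0 + f 1 * x 1 + f 2 * x 2 = 1 := by
    have := h.1
    simpa [dotProduct, Fin.sum_univ_three] using this
  have k0 : β * (2 * (f 2 * x 2 - f 0 * x 0)) = 0 := by grind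
  have k1 : β * (2 * f 2 * x 1 - f 1 * x 0) = 0 := by grind
  have k2 : β * (2 * f 0 * x 1 - f 1 * x 2) = 0 := by grind
  have l0 := (mul_eq_zero.1 k0).resolve_left hβ
  have l1 := (mul_eq_zero.1 k1).resolve_left hβ
  have l2 := (mul_eq_zero.1 k2).resolve_left hβ
  have l0' := (mul_eq_zero.1 l0).resolve_left h2
  have m0 : 2 * (f 0 * q) = x 2 := by rw [hq]; grind
  have m1 : f 1 * q = x 1 := by rw [hq]; grind
  have m2 : 2 * (f 2 * q) = x 0 := by rw [hq]; grind
  have hq0 : q ≠ 0 := fun hq0 => h.ne_left (by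
    rw [hq0] at m0 m1 m2
    funext i
    fin_cases i
    exacts [(by simpa using m2.symm), (by simpa using m1.symm), (by simpa using m0.symm)])
  refine ⟨q⁻¹, funext fun i => ?_⟩
  rw [Pi.smul_apply, smul_eq_mul, eq_inv_mul_iff_mul_eq₀ hq0]
  fin_cases i <;> simp [adjForm, mulVec, dotProduct, Fin.sum_univ_three]
  · field_simp; linear_combination m0
  · linear_combination m1
  · field_simp; linear_combination m2

omit hF h3 in
theorem dot_self_ne_zero_aux : (2⁻¹ : F) ≠ 0 := inv_ne_zero h2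

omit h3 in
/-- An element of order `p` is regular unipotent. -/
theorem unipotent_shape (hno : NoFlag M) {u : GL (Fin 3) F} (hu : u ∈ M) (hup : u ^ p = 1) (hu1 : u ≠ 1) :
    ((u : Matrix (Fin 3) (Fin 3) F) - 1) ^ 3 = 0 ∧ ((u : Matrix (Fin 3) (Fin 3) F) - 1) ^ 2 ≠ 0 := by
  haveI : CharP F p := charP_of_card_eq_prime hF
  set N := (u : Matrix (Fin 3) (Fin 3) F) - 1 with hN
  have hnil : N ^ p = 0 := by
    rw [hN, sub_pow_char_of_commute p (Commute.one_right _), ← Units.val_pow_eq_pow_val, hup, Units.val_one,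
      one_pow, sub_self]
  have hN3 : N ^ 3 = 0 := by
    have h := Matrix.isNilpotent_charpoly_sub_pow_of_isNilpotent ⟨p, hnil⟩
    rw [isNilpotent_iff_eq_zero, sub_eq_zero, Fintype.card_fin] at h
    have := Matrix.aeval_self_charpoly N
    rwa [h, map_pow, Polynomial.aeval_X] at this
  refine ⟨hN3, fun h0 => ?_⟩
  have hNN : ∀ v, N *ᵥ (N *ᵥ v) = 0 := fun v => by rw [mulVec_mulVec, ← pow_two, h0, zero_mulVec]
  set T := N.mulVecLin with hT
  have hle : LinearMap.range T ≤ LinearMap.ker T := by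
    rintro _ ⟨v, rfl⟩
    exact LinearMap.mem_ker.2 (hNN v)
  have hk := T.finrank_range_add_finrank_ker
  have hmono := Submodule.finrank_mono hle
  rw [Module.finrank_fin_fun] at hk
  have hN0 : N ≠ 0 := fun h => hu1 (Units.ext (sub_eq_zero.1 h))
  have h1 : 1 ≤ Module.finrank F (LinearMap.range T) := by
    rw [Submodule.one_le_finrank_iff, Ne, LinearMap.range_eq_bot]
    intro h
    exact hN0 (Matrix.ext_of_mulVec_single fun i =>
      (LinearMap.congr_fun h (Pi.single i 1)).trans (zero_mulVec _).symm)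
  obtain ⟨⟨v, hv⟩, hv0, hspan⟩ := finrank_eq_one_iff'.1 (show Module.finrank F (LinearMap.range T) = 1 by omega)
  choose c hc using fun i => hspan ⟨_, LinearMap.mem_range_self T (Pi.single i 1)⟩
  have hNv : N = vecMulVec v c := by
    ext i j
    have h := congrFun (congrArg Subtype.val (hc j)) i
    simp only [hT, mulVecLin_apply, Pi.smul_apply, smul_eq_mul, mulVec_single_one, col_apply,
      SetLike.val_smul] at h
    rw [← h, vecMulVec_apply, mul_comm]
  have hv0' : v ≠ 0 := fun h => hv0 (Subtype.ext h)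
  have hc0 : c ≠ 0 := fun h => hN0 (by rw [hNv, h]; ext i j; simp [vecMulVec_apply])
  have hcv : c ⬝ᵥ v = 0 := by
    obtain ⟨w, hw⟩ := hv
    have := hNN w
    rw [show N *ᵥ w = v from hw, hNv, vecMulVec_mulVec'] at this
    exact (smul_eq_zero.1 this).resolve_right hv0'
  refine hno v c (flag_of_tv hcv hv0' hc0 ?_)
  convert hu
  apply Units.ext
  rw [tv_coe hcv, ← hNv, hN, add_sub_cancel]

omit hF h3 in
theorem upper_shape {U : Matrix (Fin 3) (Fin 3) F} (hK : Uᵀ * adjForm F * U = adjForm F)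
    (hcol : U *ᵥ Pi.single 0 1 = Pi.single 0 1) (htr : U.trace = 3) : U = rho 1 (U 1 2) 0 1 := by
  have c0 := congrFun hcol 0
  have c1 := congrFun hcol 1
  have c2 := congrFun hcol 2
  simp [mulVec_single_one] at c0 c1 c2
  have k01 := congrFun (congrFun hK 0) 1
  have k02 := congrFun (congrFun hK 0) 2
  have k11 := congrFun (congrFun hK 1) 1
  have k12 := congrFun (congrFun hK 1) 2
  have k22 := congrFun (congrFun hK 2) 2
  simp [adjForm, Matrix.mul_apply, Fin.sum_univ_three, c0, c1, c2] at k01 k02 k11 k12 k22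
  rw [Matrix.trace_fin_three] at htr
  have h21 : U 2 1 = 0 := by grind
  have h22 : U 2 2 = 1 := by grind
  have h11 : U 1 1 = 1 := by grind
  ext i j; fin_cases i <;> fin_cases j <;> simp [rho, c0, c1, c2, h21, h22, h11] <;> grind

omit hF h3 in
theorem lower_shape {U : Matrix (Fin 3) (Fin 3) F} (hK : Uᵀ * adjForm F * U = adjForm F)
    (hcol : U *ᵥ Pi.single 2 1 = Pi.single 2 1) (htr : U.trace = 3) : U = rho 1 0 (-U 1 0) 1 := by
  have c0 := congrFun hcol 0
  have c1 := congrFun hcol 1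
  have c2 := congrFun hcol 2
  simp [mulVec_single_one] at c0 c1 c2
  have k21 := congrFun (congrFun hK 2) 1
  have k20 := congrFun (congrFun hK 2) 0
  have k11 := congrFun (congrFun hK 1) 1
  have k10 := congrFun (congrFun hK 1) 0
  have k00 := congrFun (congrFun hK 0) 0
  simp [adjForm, Matrix.mul_apply, Fin.sum_univ_three, c0, c1, c2] at k21 k20 k11 k10 k00
  rw [Matrix.trace_fin_three] at htr
  have h01 : U 0 1 = 0 := by grind
  have h00 : U 0 0 = 1 := by grind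
  have h11 : U 1 1 = 1 := by grind
  ext i j; fin_cases i <;> fin_cases j <;> simp [rho, c0, c1, c2, h01, h00, h11] <;> grind

/-- **Axes are polar to centres.** -/
theorem axis_polar (hno : NoFlag M) {B : Matrix (Fin 3) (Fin 3) F} (hsym : Bᵀ = B) (hdet : B.det ≠ 0)
    (hirr : ∀ W : Submodule F (Fin 3 → F),
      (∀ g ∈ M, (g : Matrix (Fin 3) (Fin 3) F)ᵀ * B * g = B → ∀ w ∈ W, (g : Matrix (Fin 3) (Fin 3) F) *ᵥ w ∈ W) →
      W = ⊥ ∨ W = ⊤)
    {u : GL (Fin 3) F} (hu : u ∈ M) (huB : (u : Matrix (Fin 3) (Fin 3) F)ᵀ * B * u = B)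
    (hup : u ^ p = 1) (hu1 : u ≠ 1) {x f : Fin 3 → F} (h : Hom M x f) : ∃ μ : F, f = μ • (B *ᵥ x) := by
  haveI : CharP F p := charP_of_card_eq_prime hF
  obtain ⟨hN3, hN2⟩ := unipotent_shape hF h2 hno hu hup hu1
  set U := (u : Matrix (Fin 3) (Fin 3) F) with hU
  set N := U - 1 with hN
  have hBc : ∀ v w : Fin 3 → F, (B *ᵥ v) ⬝ᵥ w = (B *ᵥ w) ⬝ᵥ v := fun v w => by
    rw [dotProduct_comm (B *ᵥ w) v, dotProduct_mulVec v B w, ← mulVec_transpose, hsym]
  have hiso : ∀ (g : Matrix (Fin 3) (Fin 3) F), gᵀ * B * g = B → ∀ v w, (B *ᵥ (g *ᵥ v)) ⬝ᵥ (g *ᵥ w) =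
      (B *ᵥ v) ⬝ᵥ w := fun g hg v w => by
    conv_rhs => rw [← hg]
    rw [dotProduct_mulVec, ← mulVec_transpose, mulVec_mulVec, mulVec_mulVec, mul_assoc]
  obtain ⟨x₀, hx₀⟩ : ∃ v, N ^ 2 *ᵥ v ≠ 0 := by
    by_contra hn
    push Not at hn
    exact hN2 (Matrix.ext_of_mulVec_single fun i => by rw [hn, zero_mulVec])
  set e := N ^ 2 *ᵥ x₀ with he
  have hue : U *ᵥ e = e := by
    have : N *ᵥ e = 0 := by rw [he, mulVec_mulVec, ← pow_succ', hN3, zero_mulVec]
    rw [hN, sub_mulVec, one_mulVec] at this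
    exact sub_eq_zero.1 this
  have heN : ∀ y, (B *ᵥ e) ⬝ᵥ (N *ᵥ y) = 0 := fun y => by
    rw [hN, sub_mulVec, one_mulVec, dotProduct_sub]
    conv_lhs => arg 1; rw [← hue, hiso U huB]
    rw [sub_self]
  have hee : (B *ᵥ e) ⬝ᵥ e = 0 := by
    have := heN (N *ᵥ x₀)
    have e2 : N *ᵥ (N *ᵥ x₀) = e := by rw [he, mulVec_mulVec, ← pow_two]
    rwa [e2] at this
  have hinj : Function.Injective (B *ᵥ ·) :=
    mulVec_injective_iff_isUnit.2 ((Matrix.isUnit_iff_isUnit_det _).2 (Ne.isUnit hdet))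
  -- a second fixed point
  obtain ⟨g, hg, hgB, hge⟩ : ∃ g ∈ M, (g : Matrix (Fin 3) (Fin 3) F)ᵀ * B * g = B ∧
      Indep e ((g : Matrix (Fin 3) (Fin 3) F) *ᵥ e) := by
    by_contra hn
    push Not at hn
    rcases hirr (Submodule.span F {e}) (fun g hg hgB w hw => by
        obtain ⟨c, rfl⟩ := Submodule.mem_span_singleton.1 hw
        rcases indep_or_smul (show e ≠ 0 from hx₀) ((g : Matrix (Fin 3) (Fin 3) F) *ᵥ e) with h' | ⟨s, hs⟩
        · exact absurd h' (hn g hg hgB)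
        · rw [mulVec_smul, ← hs, smul_smul]
          exact Submodule.smul_mem _ _ (Submodule.mem_span_singleton_self e)) with h' | h'
    · exact hx₀ (Submodule.span_singleton_eq_bot.1 h')
    · have := finrank_span_singleton (K := F) (show e ≠ 0 from hx₀)
      rw [h', finrank_top, Module.finrank_fin_fun] at this
      omega
  set f₁ := (g : Matrix (Fin 3) (Fin 3) F) *ᵥ e with hf₁
  have hff : (B *ᵥ f₁) ⬝ᵥ f₁ = 0 := by rw [hf₁, hiso _ hgB, hee]
  set β := (B *ᵥ e) ⬝ᵥ f₁ with hβ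
  have hBi : Indep (B *ᵥ e) (B *ᵥ f₁) := fun s t hst => hge s t (hinj (by
    simp only [mulVec_add, mulVec_smul, mulVec_zero]; exact hst))
  set w := crossProduct (B *ᵥ e) (B *ᵥ f₁) with hw
  have hw0 : w ≠ 0 := hBi.cross_ne_zero
  have hew : (B *ᵥ e) ⬝ᵥ w = 0 := dot_self_cross _ _
  have hfw : (B *ᵥ f₁) ⬝ᵥ w = 0 := dot_cross_self _ _
  have hβ0 : β ≠ 0 := by
    intro h0
    obtain ⟨s, hs⟩ := exists_smul_of_dot hBi hge.left hee (by rw [hBc]; exact h0) (w := f₁) h0 hff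
    simpa using (hge s (-1) (by rw [hs, neg_one_smul, add_neg_cancel])).2
  set γ := (B *ᵥ w) ⬝ᵥ w with hγ
  have hlin : ∀ s t r : F, s • e + t • w + r • f₁ = 0 → s = 0 ∧ t = 0 ∧ r = 0 := fun s t r hst => by
    have a := congrArg (fun v => (B *ᵥ f₁) ⬝ᵥ v) hst
    have b := congrArg (fun v => (B *ᵥ e) ⬝ᵥ v) hst
    simp only [dotProduct_add, dotProduct_smul, smul_eq_mul, dotProduct_zero, hfw, hew, hff, hee, hBc f₁ e,
      mul_zero, add_zero, zero_add] at a b
    have hs := (mul_eq_zero.1 a).resolve_right hβ0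
    have hr := (mul_eq_zero.1 b).resolve_right hβ0
    rw [hs, hr, zero_smul, zero_smul, zero_add, add_zero] at hst
    exact ⟨hs, (smul_eq_zero.1 hst).resolve_right hw0, hr⟩
  set Pm : Matrix (Fin 3) (Fin 3) F := (Matrix.of ![e, w, (γ / (2 * β)) • f₁])ᵀ with hPm
  have hPc : ∀ c : Fin 3 → F, Pm *ᵥ c = c 0 • e + c 1 • w + (c 2 * (γ / (2 * β))) • f₁ := fun c => by
    funext i
    simp [hPm, mulVec, dotProduct, Fin.sum_univ_three]
    ring
  have hγ0 : γ ≠ 0 := by
    intro h0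
    have hlinU : IsUnit ((Matrix.of ![e, w, f₁])ᵀ : Matrix (Fin 3) (Fin 3) F) := by
      refine mulVec_injective_iff_isUnit.1 ((injective_iff_map_eq_zero (Matrix.mulVecLin _)).2 fun c hc => ?_)
      rw [mulVecLin_apply] at hc
      obtain ⟨a, b, d⟩ := hlin (c 0) (c 1) (c 2) (by
        rw [← hc]; funext i; simp [mulVec, dotProduct, Fin.sum_univ_three]; ring)
      funext i; fin_cases i <;> assumption
    have hzero : (B *ᵥ w) ᵥ* (Matrix.of ![e, w, f₁])ᵀ = 0 := by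
      rw [vecMul_transpose]
      funext i
      show (![e, w, f₁] i) ⬝ᵥ (B *ᵥ w) = 0
      rw [dotProduct_comm]
      fin_cases i
      · show (B *ᵥ w) ⬝ᵥ e = 0; rw [hBc, hew]
      · exact h0
      · show (B *ᵥ w) ⬝ᵥ f₁ = 0; rw [hBc, hfw]
    have := vecMul_injective_of_isUnit hlinU (hzero.trans (zero_vecMul _).symm)
    exact hw0 (hinj (this.trans (mulVec_zero B).symm))
  have hk : γ / (2 * β) ≠ 0 := div_ne_zero hγ0 (mul_ne_zero h2 hβ0)
  have hunit : IsUnit Pm := by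
    refine mulVec_injective_iff_isUnit.1 ((injective_iff_map_eq_zero Pm.mulVecLin).2 fun c hc => ?_)
    rw [mulVecLin_apply, hPc] at hc
    obtain ⟨a, b, d⟩ := hlin _ _ _ hc
    funext i; fin_cases i
    exacts [a, b, (mul_eq_zero.1 d).resolve_right hk]
  set P := hunit.unit with hP
  have hPv : (P : Matrix (Fin 3) (Fin 3) F) = Pm := rfl
  have hform : Pmᵀ * B * Pm = γ • adjForm F := by
    have hent : ∀ i j, (Pmᵀ * B * Pm) i j = (B *ᵥ (Pm *ᵥ Pi.single j 1)) ⬝ᵥ (Pm *ᵥ Pi.single i 1) := fun i j => by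
      rw [mul_assoc, Matrix.mul_apply, mulVec_mulVec, mulVec_single_one, mulVec_single_one, dotProduct]
      exact Finset.sum_congr rfl fun k _ => mul_comm _ _
    ext i j
    rw [hent, hPc, hPc]
    have hwe : (B *ᵥ w) ⬝ᵥ e = 0 := by rw [hBc, hew]
    have hwf : (B *ᵥ w) ⬝ᵥ f₁ = 0 := by rw [hBc, hfw]
    have hfe : (B *ᵥ f₁) ⬝ᵥ e = β := hBc _ _
    fin_cases i <;> fin_cases j <;>
      simp [adjForm, mulVec_smul, dotProduct_smul, smul_dotProduct, hee, hff, hew, hfw, hwe, hwf, hfe, ← hβ, ← hγ] <;>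
      field_simp
  set M' := M.comap (MulAut.conj P).toMonoidHom with hM'
  have hmem : ∀ y, y ∈ M' ↔ P * y * P⁻¹ ∈ M := fun y => Iff.rfl
  have hno' : NoFlag M' := by
    rintro v a ⟨h0, hv, ha, c, hc, hm⟩
    rw [hmem, conj_tv, mulVec_smul] at hm
    refine hno ((P : Matrix (Fin 3) (Fin 3) F) *ᵥ v) (a ᵥ* ((P⁻¹ : GL (Fin 3) F) : Matrix (Fin 3) (Fin 3) F))
      ⟨by rw [dot_conj, h0], ?_, ?_, c, hc, hm⟩
    · intro e0; exact hv (mulVec_injective_iff_isUnit.2 P.isUnit (e0.trans (mulVec_zero _).symm))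
    · intro e0; exact ha (vecMul_injective_of_isUnit P⁻¹.isUnit (e0.trans (zero_vecMul _).symm))
  have hKform : ∀ y : GL (Fin 3) F, ((P * y * P⁻¹ : GL (Fin 3) F) : Matrix (Fin 3) (Fin 3) F)ᵀ * B *
      (P * y * P⁻¹ : GL (Fin 3) F) = B → (y : Matrix (Fin 3) (Fin 3) F)ᵀ * adjForm F * y = adjForm F := by
    intro y hy
    have key : ((P * y * P⁻¹ : GL (Fin 3) F) : Matrix (Fin 3) (Fin 3) F) * Pm = Pm * y := by
      rw [← hPv, ← Units.val_mul, ← Units.val_mul, inv_mul_cancel_right]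
    have h' : γ • ((y : Matrix (Fin 3) (Fin 3) F)ᵀ * adjForm F * y) = γ • adjForm F := by
      rw [← smul_mul_assoc, ← mul_smul_comm, ← hform]
      conv_rhs => rw [show Pmᵀ * B * Pm = Pmᵀ * (((P * y * P⁻¹ : GL (Fin 3) F) : Matrix (Fin 3) (Fin 3) F)ᵀ * B *
        (P * y * P⁻¹ : GL (Fin 3) F)) * Pm by rw [hy]]
      rw [show Pmᵀ * (((P * y * P⁻¹ : GL (Fin 3) F) : Matrix (Fin 3) (Fin 3) F)ᵀ * B *
          (P * y * P⁻¹ : GL (Fin 3) F)) * Pm =
        (((P * y * P⁻¹ : GL (Fin 3) F) : Matrix (Fin 3) (Fin 3) F) * Pm)ᵀ * B *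
          (((P * y * P⁻¹ : GL (Fin 3) F) : Matrix (Fin 3) (Fin 3) F) * Pm) by
        simp only [transpose_mul, mul_assoc], key, transpose_mul]
      simp only [mul_assoc]
    exact smul_right_injective _ hγ0 h'
  have htr : ∀ y : GL (Fin 3) F, ((P⁻¹ * y * P : GL (Fin 3) F) : Matrix (Fin 3) (Fin 3) F).trace =
      (y : Matrix (Fin 3) (Fin 3) F).trace := fun y => by
    rw [Units.val_mul, Units.val_mul, Matrix.trace_units_conj' P]
  have htru : U.trace = 3 := by
    have h0 := (Matrix.isNilpotent_trace_of_isNilpotent ⟨3, hN3⟩).eq_zero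
    rw [hN, trace_sub, trace_one, Fintype.card_fin, sub_eq_zero] at h0
    simpa using h0
  have hP0 : (P : Matrix (Fin 3) (Fin 3) F) *ᵥ Pi.single 0 1 = e := by rw [hPv, hPc]; simp
  have hP2 : (P : Matrix (Fin 3) (Fin 3) F) *ᵥ Pi.single 2 1 = (γ / (2 * β)) • f₁ := by rw [hPv, hPc]; simp
  have hcolfix : ∀ (y : GL (Fin 3) F) (i : Fin 3),
      (y : Matrix (Fin 3) (Fin 3) F) *ᵥ ((P : Matrix (Fin 3) (Fin 3) F) *ᵥ Pi.single i 1) =
        (P : Matrix (Fin 3) (Fin 3) F) *ᵥ Pi.single i 1 →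
      ((P⁻¹ * y * P : GL (Fin 3) F) : Matrix (Fin 3) (Fin 3) F) *ᵥ Pi.single i 1 = Pi.single i 1 := fun y i hy => by
    rw [Units.val_mul, Units.val_mul, ← mulVec_mulVec, ← mulVec_mulVec, hy, mulVec_mulVec, Units.inv_mul, one_mulVec]
  have hback : ∀ y, P * (P⁻¹ * y * P) * P⁻¹ = y := fun y => by group
  set u₁ := P⁻¹ * u * P with hu₁
  set u₂ := P⁻¹ * (g * u * g⁻¹) * P with hu₂
  have hu₁K := hKform u₁ (by rw [hu₁, hback]; exact huB)
  have hgiB : ((g⁻¹ : GL (Fin 3) F) : Matrix (Fin 3) (Fin 3) F)ᵀ * B * (g⁻¹ : GL (Fin 3) F) = B := by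
    conv_lhs => rw [← hgB]
    rw [← mul_assoc, ← mul_assoc, ← transpose_mul, mul_assoc, Units.mul_inv, transpose_one, one_mul, mul_one]
  have hu₂K := hKform u₂ (by
    rw [hu₂, hback, Units.val_mul, Units.val_mul, transpose_mul, transpose_mul]
    rw [show ((g⁻¹ : GL (Fin 3) F) : Matrix (Fin 3) (Fin 3) F)ᵀ * (Uᵀ * (g : Matrix (Fin 3) (Fin 3) F)ᵀ) * B *
      ((g : Matrix (Fin 3) (Fin 3) F) * U * ((g⁻¹ : GL (Fin 3) F) : Matrix (Fin 3) (Fin 3) F)) =
      ((g⁻¹ : GL (Fin 3) F) : Matrix (Fin 3) (Fin 3) F)ᵀ * (Uᵀ * ((g : Matrix (Fin 3) (Fin 3) F)ᵀ * B * g) * U) *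
      (g⁻¹ : GL (Fin 3) F) by simp only [mul_assoc], hgB, huB, hgiB])
  have e1 := upper_shape h2 hu₁K (hcolfix u 0 (by rw [hP0]; exact hue)) (by rw [hu₁, htr]; exact htru)
  have e2 := lower_shape h2 hu₂K (hcolfix (g * u * g⁻¹) 2 (by
    rw [hP2, mulVec_smul]
    congr 1
    rw [hf₁, mulVec_mulVec, ← Units.val_mul, inv_mul_cancel_right, Units.val_mul, ← mulVec_mulVec, hue]))
    (by rw [hu₂, htr, Units.val_mul, Units.val_mul, Matrix.trace_units_conj]; exact htru)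
  have hm₁ : MatIn M' (rho 1 ((u₁ : Matrix (Fin 3) (Fin 3) F) 1 2) 0 1) :=
    ⟨u₁, by rw [hmem, hu₁, hback]; exact hu, e1⟩
  have hm₂ : MatIn M' (rho 1 0 (-(u₂ : Matrix (Fin 3) (Fin 3) F) 1 0) 1) :=
    ⟨u₂, by rw [hmem, hu₂, hback]; exact M.mul_mem (M.mul_mem hg hu) (M.inv_mem hg), e2⟩
  have hne₁ : u₁ ≠ 1 := fun h1 => hu1 (by rw [← hback u, ← hu₁, h1, mul_one, mul_inv_cancel])
  have hne₂ : u₂ ≠ 1 := fun h1 => hu1 (by
    have := hback (g * u * g⁻¹)
    rw [← hu₂, h1, mul_one, mul_inv_cancel] at this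
    calc u = g⁻¹ * (g * u * g⁻¹) * g := by group
      _ = 1 := by rw [← this]; group)
  have hc₁ : (u₁ : Matrix (Fin 3) (Fin 3) F) 1 2 ≠ 0 := fun h0 => hne₁ (Units.ext (by
    rw [e1, h0, rho_one, Units.val_one]))
  have hc₂ : -(u₂ : Matrix (Fin 3) (Fin 3) F) 1 0 ≠ 0 := fun h0 => hne₂ (Units.ext (by
    rw [e2, h0, rho_one, Units.val_one]))
  -- transport the homology
  have hh' : Hom M' (((P⁻¹ : GL (Fin 3) F) : Matrix (Fin 3) (Fin 3) F) *ᵥ x) (f ᵥ* (P : Matrix (Fin 3) (Fin 3) F)) := by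
    obtain ⟨h1, y, hy, hye⟩ := h
    refine ⟨by rw [← dotProduct_mulVec, mulVec_mulVec, Units.mul_inv, one_mulVec, h1], P⁻¹ * y * P,
      by rw [hmem, hback]; exact hy, ?_⟩
    rw [Units.val_mul, Units.val_mul, hye]
    have := homMat_conj P⁻¹ x f
    rwa [inv_inv] at this
  obtain ⟨μ, hμ⟩ := axis_polar_standard hF h2 h3 hno' hc₁ hc₂ hm₁ hm₂ hh'
  refine ⟨μ / γ, ?_⟩
  have h' := congrArg (fun v => v ᵥ* ((P⁻¹ : GL (Fin 3) F) : Matrix (Fin 3) (Fin 3) F)) hμ
  simp only [vecMul_vecMul, Units.mul_inv, vecMul_one, smul_vecMul] at h'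
  rw [h', div_eq_mul_inv, ← smul_smul]
  congr 1
  rw [show adjForm F = γ⁻¹ • (Pmᵀ * B * Pm) by rw [hform, inv_smul_smul₀ hγ0], smul_mulVec, smul_vecMul]
  congr 1
  rw [← hPv, ← mulVec_mulVec, mulVec_mulVec x (P : Matrix (Fin 3) (Fin 3) F), Units.mul_inv, one_mulVec,
    ← mulVec_transpose, mulVec_mulVec, ← mul_assoc, ← transpose_mul, Units.mul_inv, transpose_one, one_mul]

end CfsgLib.SLThree.Hessian
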