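import Cfsg.Agent.SLThree.Hessian.Klein
import Cfsg.Agent.SLThree.Hessian.Unipotent
import Mathlib.GroupTheory.Perm.Cycle.Type

/-!
# Three homologies

Three homologies whose pairs generate dihedral groups of orders six, four and large order preserve a form and
generate an irreducible group; without transvections all axes are then polar to the centres.
-/

set_option autoImplicit false
set_option linter.unusedSectionVars false

namespace CfsgLib.SLThree.Hessian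

open Matrix Cfsg.Geo CfsgLib.MaxSub

variable {F : Type*} [Field F] [Fintype F] {p : ℕ} [Fact p.Prime]

theorem homMat_mulVec' (e f x : Fin 3 → F) : homMat e f *ᵥ x = -x + (2 * (f ⬝ᵥ x)) • e := by
  rw [homMat, add_mulVec, neg_mulVec, one_mulVec, smul_mulVec, vecMulVec_mulVec', smul_smul]

/-- A homology with polar axis is an isometry. -/
theorem homMat_iso {B : Matrix (Fin 3) (Fin 3) F} (hsym : Bᵀ = B) {e f : Fin 3 → F} (hfe : f ⬝ᵥ e = 1) {m : F}
    (hBe : B *ᵥ e = m • f) : (homMat e f)ᵀ * B * homMat e f = B := by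
  have h1 : e ᵥ* B = m • f := by rw [← mulVec_transpose, hsym, hBe]
  have h3 : (B *ᵥ e) ⬝ᵥ e = m := by rw [hBe, smul_dotProduct, hfe, smul_eq_mul, mul_one]
  simp only [homMat, transpose_add, transpose_neg, transpose_one, transpose_smul, transpose_vecMulVec, add_mul,
    mul_add, neg_mul, mul_neg, one_mul, mul_one, neg_neg, smul_mul_assoc, mul_smul_comm, mul_vecMulVec,
    vecMulVec_mul, h1, hBe, smul_vecMulVec, vecMulVec_smul, smul_smul, vecMulVec_mul_vecMulVec, vecMulVec_mulVec', smul_dotProduct,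
    hfe, smul_eq_mul, mul_one]
  module

/-- **Three homologies.** -/
theorem axis_polar_of_triangle (hF : Fintype.card F = p) (h2 : (2 : F) ≠ 0) (h3 : (3 : F) ≠ 0)
    {M : Subgroup (GL (Fin 3) F)} (hno : NoFlag M) (hdetM : ∀ g ∈ M, (g : Matrix (Fin 3) (Fin 3) F).det = 1)
    {e₁ f₁ e₂ f₂ e₃ f₃ : Fin 3 → F} (H₁ : Hom M e₁ f₁) (H₂ : Hom M e₂ f₂) (H₃ : Hom M e₃ f₃)
    (h12 : 4 * ((f₁ ⬝ᵥ e₂) * (f₂ ⬝ᵥ e₁)) = 1) (h13 : f₁ ⬝ᵥ e₃ = 0) (h31 : f₃ ⬝ᵥ e₁ = 0) {c t : F}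
    (hc : (f₂ ⬝ᵥ e₃) * (f₃ ⬝ᵥ e₂) = c) (ht : t = 4 * c - 2) (hc0 : c ≠ 0) (hc3 : 4 * c ≠ 3) (ht1 : t ≠ -1)
    (ht0 : t ≠ 0) (ht5 : t ^ 2 + t - 1 ≠ 0) :
    ∃ B : Matrix (Fin 3) (Fin 3) F, B ≠ 0 ∧ Bᵀ = B ∧ ∀ x f, Hom M x f → ∃ μ : F, f = μ • (B *ᵥ x) := by
  set x := f₁ ⬝ᵥ e₂ with hx
  set y := f₂ ⬝ᵥ e₁ with hy
  set u := f₂ ⬝ᵥ e₃ with hu
  set w := f₃ ⬝ᵥ e₂ with hw
  have hx0 : x ≠ 0 := fun h => by rw [h] at h12; simp at h12
  have hy0 : y ≠ 0 := fun h => by rw [h] at h12; simp at h12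
  have hu0 : u ≠ 0 := fun h => hc0 (by rw [← hc, h, zero_mul])
  have hw0 : w ≠ 0 := fun h => hc0 (by rw [← hc, h, mul_zero])
  set E : Matrix (Fin 3) (Fin 3) F := (Matrix.of ![e₁, e₂, e₃])ᵀ with hE
  set Fr : Matrix (Fin 3) (Fin 3) F := Matrix.of ![f₁, f₂, f₃] with hFr
  have hG : Fr * E = !![1, x, 0; y, 1, u; 0, w, 1] := by
    ext i j
    rw [Matrix.mul_apply, show ∑ k, Fr i k * E k j = (![f₁, f₂, f₃] i) ⬝ᵥ (![e₁, e₂, e₃] j) from rfl]
    fin_cases i <;> fin_cases j <;> simp [H₁.1, H₂.1, H₃.1, h13, h31, ← hx, ← hy, ← hu, ← hw]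
  have hdG : (Fr * E).det ≠ 0 := by
    rw [hG, det_fin_three]
    simp
    intro h
    exact hc3 (by linear_combination -4 * h - h12 - 4 * hc)
  rw [det_mul] at hdG
  have hEu : IsUnit E := (Matrix.isUnit_iff_isUnit_det _).2 (Ne.isUnit (right_ne_zero_of_mul hdG))
  have hFu : IsUnit Fr := (Matrix.isUnit_iff_isUnit_det _).2 (Ne.isUnit (left_ne_zero_of_mul hdG))
  set Ei := ((hEu.unit⁻¹ : GL (Fin 3) F) : Matrix (Fin 3) (Fin 3) F) with hEi
  have hEE : E * Ei = 1 := hEu.unit.mul_inv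
  have hEE' : Ei * E = 1 := hEu.unit.inv_mul
  set μ : Fin 3 → F := ![1, x / y, x / y * u / w] with hμ
  have hμ0 : ∀ i, μ i ≠ 0 := by
    intro i; fin_cases i <;> simp [hμ, hx0, hy0, hu0, hw0]
  set B := Frᵀ * Matrix.diagonal μ * Ei with hB
  have hBE : B * E = Frᵀ * Matrix.diagonal μ := by rw [hB, mul_assoc, hEE', mul_one]
  have hGr : Eᵀ * B * E = (Fr * E)ᵀ * Matrix.diagonal μ := by
    rw [mul_assoc, hBE, transpose_mul, mul_assoc]
  have hGs : ((Fr * E)ᵀ * Matrix.diagonal μ)ᵀ = (Fr * E)ᵀ * Matrix.diagonal μ := by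
    rw [hG]
    ext i j
    fin_cases i <;> fin_cases j <;> simp [mul_diagonal, hμ] <;> field_simp
  have hBrec : B = Eiᵀ * ((Fr * E)ᵀ * Matrix.diagonal μ) * Ei := by
    rw [← hGr]
    simp only [mul_assoc, hEE, mul_one]
    rw [← mul_assoc Eiᵀ, ← transpose_mul, hEE, transpose_one, one_mul]
  have hsym : Bᵀ = B := by
    rw [hBrec, transpose_mul, transpose_mul, hGs, transpose_transpose, ← mul_assoc]
  have hdetB : B.det ≠ 0 := by
    rw [hB, det_mul, det_mul, det_transpose, det_diagonal]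
    exact mul_ne_zero (mul_ne_zero (left_ne_zero_of_mul hdG) (Finset.prod_ne_zero_iff.2 fun i _ => hμ0 i))
      (Matrix.isUnit_iff_isUnit_det _ |>.1 (hEu.unit⁻¹).isUnit).ne_zero
  have hBe : ∀ i, B *ᵥ (![e₁, e₂, e₃] i) = μ i • ![f₁, f₂, f₃] i := fun i => by
    have : (![e₁, e₂, e₃] i) = E *ᵥ Pi.single i 1 := by rw [mulVec_single_one]; rfl
    rw [this, mulVec_mulVec, hBE, mulVec_single_one]
    funext k
    simp [mul_diagonal, hFr, mul_comm]
  let X : Subgroup (GL (Fin 3) F) :=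
    { carrier := {g | g ∈ M ∧ (g : Matrix (Fin 3) (Fin 3) F)ᵀ * B * g = B}
      one_mem' := ⟨M.one_mem, by simp⟩
      mul_mem' := fun {a b} ha hb => ⟨M.mul_mem ha.1 hb.1, by
        rw [Units.val_mul, transpose_mul, show (b : Matrix (Fin 3) (Fin 3) F)ᵀ * (a : Matrix (Fin 3) (Fin 3) F)ᵀ * B *
          ((a : Matrix (Fin 3) (Fin 3) F) * b) = (b : Matrix (Fin 3) (Fin 3) F)ᵀ *
          ((a : Matrix (Fin 3) (Fin 3) F)ᵀ * B * a) * b by simp only [mul_assoc], ha.2, hb.2]⟩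
      inv_mem' := fun {a} ha => ⟨M.inv_mem ha.1, by
        conv_lhs => rw [← ha.2]
        rw [← mul_assoc, ← mul_assoc, ← transpose_mul, mul_assoc, Units.mul_inv, transpose_one, one_mul, mul_one]⟩ }
  have hXM : X ≤ M := fun g hg => hg.1
  have hhom : ∀ i, ∀ g : GL (Fin 3) F, g ∈ M →
      (g : Matrix (Fin 3) (Fin 3) F) = homMat (![e₁, e₂, e₃] i) (![f₁, f₂, f₃] i) → g ∈ X := fun i g hg he =>
    ⟨hg, by
      rw [he]
      refine homMat_iso hsym ?_ (hBe i)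
      fin_cases i <;> simp [H₁.1, H₂.1, H₃.1]⟩
  obtain ⟨g₁, hg₁, hge₁⟩ := H₁.2
  obtain ⟨g₂, hg₂, hge₂⟩ := H₂.2
  obtain ⟨g₃, hg₃, hge₃⟩ := H₃.2
  have hX₁ : g₁ ∈ X := hhom 0 g₁ hg₁ hge₁
  have hX₂ : g₂ ∈ X := hhom 1 g₂ hg₂ hge₂
  have hX₃ : g₃ ∈ X := hhom 2 g₃ hg₃ hge₃
  have hirr : MaxSub.Irreducible X := by
    intro W hW
    refine or_iff_not_imp_left.2 fun hne => ?_
    have hget : ∀ {g : GL (Fin 3) F} {e f v : Fin 3 → F}, g ∈ X → (g : Matrix (Fin 3) (Fin 3) F) = homMat e f →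
        v ∈ W → f ⬝ᵥ v ≠ 0 → e ∈ W := fun {g e f v} hg hge hv hfv => by
      have h := W.add_mem (hW g hg v hv) hv
      rw [hge, homMat_mulVec', neg_add_cancel_comm] at h
      have h' := W.smul_mem (2 * (f ⬝ᵥ v))⁻¹ h
      rwa [inv_smul_smul₀ (mul_ne_zero h2 hfv)] at h'
    obtain ⟨v, hv, hv0⟩ := Submodule.exists_mem_ne_zero_of_ne_bot hne
    have hsome : f₁ ⬝ᵥ v ≠ 0 ∨ f₂ ⬝ᵥ v ≠ 0 ∨ f₃ ⬝ᵥ v ≠ 0 := by
      by_contra hn
      push Not at hn
      refine hv0 (mulVec_injective_iff_isUnit.2 hFu (show Fr *ᵥ v = Fr *ᵥ 0 from ?_))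
      rw [mulVec_zero]
      funext i
      fin_cases i
      exacts [hn.1, hn.2.1, hn.2.2]
    have h2' : e₂ ∈ W := by
      rcases hsome with h | h | h
      · exact hget hX₂ hge₂ (hget hX₁ hge₁ hv h) hy0
      · exact hget hX₂ hge₂ hv h
      · exact hget hX₂ hge₂ (hget hX₃ hge₃ hv h) hu0
    have h1' : e₁ ∈ W := hget hX₁ hge₁ h2' hx0
    have h3' : e₃ ∈ W := hget hX₃ hge₃ h2' hw0
    refine eq_top_iff.2 fun z _ => ?_
    have hz : z = E *ᵥ (Ei *ᵥ z) := by rw [mulVec_mulVec, hEE, one_mulVec]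
    rw [hz, show E *ᵥ (Ei *ᵥ z) = (Ei *ᵥ z) 0 • e₁ + (Ei *ᵥ z) 1 • e₂ + (Ei *ᵥ z) 2 • e₃ by
      funext k; simp [hE, mulVec, dotProduct, Fin.sum_univ_three]; ring]
    exact W.add_mem (W.add_mem (W.smul_mem _ h1') (W.smul_mem _ h2')) (W.smul_mem _ h3')
  -- the rotation
  set T := g₂ * g₃ with hT
  have hTv : ∀ v, (T : Matrix (Fin 3) (Fin 3) F) *ᵥ v = homMat e₂ f₂ *ᵥ (homMat e₃ f₃ *ᵥ v) := fun v => by
    rw [hT, Units.val_mul, hge₂, hge₃, mulVec_mulVec]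
  set T₂ := (T : Matrix (Fin 3) (Fin 3) F) *ᵥ e₂ with hT2
  have hT2v : T₂ = (4 * c - 1) • e₂ + (-(2 * w)) • e₃ := by
    rw [hT2, hTv, homMat_mulVec' e₃, ← hw, mulVec_add, mulVec_neg, mulVec_smul, homMat_mulVec', homMat_mulVec', H₂.1,
      ← hu, ← hc]
    module
  have hrec : (T : Matrix (Fin 3) (Fin 3) F) *ᵥ T₂ = t • T₂ + (-1 : F) • e₂ := by
    have he3 : (T : Matrix (Fin 3) (Fin 3) F) *ᵥ e₃ = -e₃ + (2 * u) • e₂ := by
      rw [hTv, homMat_mulVec' e₃, H₃.1, mul_one, mulVec_add, mulVec_neg, mulVec_smul, homMat_mulVec', ← hu]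
      module
    conv_lhs => rw [hT2v, mulVec_add, mulVec_smul, mulVec_smul, ← hT2, he3, hT2v]
    rw [hT2v, ht, ← hc]
    module
  have hind : Indep T₂ e₂ := by
    intro s r h
    have hind' : LinearIndependent F ![e₁, e₂, e₃] := by
      have := Matrix.linearIndependent_cols_of_isUnit hEu
      exact this
    rw [hT2v] at h
    have h' : ∀ i, (![0, s * (4 * c - 1) + r, s * -(2 * w)] : Fin 3 → F) i = 0 :=
      Fintype.linearIndependent_iff.1 hind' _ (by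
        rw [Fin.sum_univ_three]
        simp
        rw [← h]
        module)
    have h2w := h' 2
    have h1w := h' 1
    simp at h2w h1w
    have hs : s = 0 := by simpa [hw0, h2] using h2w
    rw [hs, zero_mul, zero_add] at h1w
    exact ⟨hs, h1w⟩
  have hord : 6 ≤ orderOf T := by
    by_contra hlt
    push Not at hlt
    have hpos : 0 < orderOf T := orderOf_pos T
    have hfix : ((T : Matrix (Fin 3) (Fin 3) F) ^ orderOf T) *ᵥ e₂ = e₂ := by
      rw [← Units.val_pow_eq_pow_val, pow_orderOf_eq_one, Units.val_one, one_mulVec]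
    have hstep : ∀ a b : F, (T : Matrix (Fin 3) (Fin 3) F) *ᵥ (a • T₂ + b • e₂) =
        (a * t + b) • T₂ + (-a) • e₂ := fun a b => by
      rw [mulVec_add, mulVec_smul, mulVec_smul, hrec, ← hT2]
      module
    have hcoef : ∀ a b : F, a • T₂ + b • e₂ = e₂ → a = 0 ∧ b = 1 := fun a b h => by
      obtain ⟨ha, hb⟩ := hind a (b - 1) (by rw [sub_smul, one_smul, ← add_sub_assoc, h, sub_self])
      exact ⟨ha, sub_eq_zero.1 hb⟩
    have p1 : ((T : Matrix (Fin 3) (Fin 3) F) ^ 1) *ᵥ e₂ = (1 : F) • T₂ + (0 : F) • e₂ := by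
      rw [pow_one, ← hT2]; module
    have hsucc : ∀ n, ∀ a b : F, ((T : Matrix (Fin 3) (Fin 3) F) ^ n) *ᵥ e₂ = a • T₂ + b • e₂ →
        ((T : Matrix (Fin 3) (Fin 3) F) ^ (n + 1)) *ᵥ e₂ = (a * t + b) • T₂ + (-a) • e₂ := fun n a b h => by
      rw [pow_succ', ← mulVec_mulVec, h, hstep]
    have p2 := hsucc 1 _ _ p1
    have p3 := hsucc 2 _ _ p2
    have p4 := hsucc 3 _ _ p3
    have p5 := hsucc 4 _ _ p4
    interval_cases hk : orderOf T
    · exact one_ne_zero (hcoef _ _ (p1.symm.trans hfix)).1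
    · have h := (hcoef _ _ (p2.symm.trans hfix)).2
      exact h2 (by linear_combination -h)
    · have h := (hcoef _ _ (p3.symm.trans hfix)).2
      exact ht1 (by linear_combination -h)
    · have h := (hcoef _ _ (p4.symm.trans hfix)).2
      exact ht0 (pow_eq_zero_iff two_ne_zero |>.1 (show t ^ 2 = 0 by linear_combination -h))
    · obtain ⟨h, h'⟩ := hcoef _ _ (p5.symm.trans hfix)
      rcases mul_eq_zero.1 (show (t - 1) * (t ^ 2 + t - 1) = 0 by linear_combination -h') with h1 | h1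
      · rw [sub_eq_zero.1 h1] at h
        exact one_ne_zero (show (1 : F) = 0 by linear_combination -h)
      · exact ht5 h1
  have hf23 : Indep f₂ f₃ := by
    intro s r h
    have hrow := Matrix.linearIndependent_rows_of_isUnit hFu
    have h' : ∀ i, (![0, s, r] : Fin 3 → F) i = 0 := Fintype.linearIndependent_iff.1 hrow _ (by
      rw [Fin.sum_univ_three]
      simp [hFr]
      exact h)
    exact ⟨h' 1, h' 2⟩
  have hTw : (T : Matrix (Fin 3) (Fin 3) F) *ᵥ crossProduct f₂ f₃ = crossProduct f₂ f₃ := by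
    rw [hTv, homMat_mulVec' e₃, dot_cross_self, mul_zero, zero_smul, add_zero, mulVec_neg, homMat_mulVec',
      dot_self_cross, mul_zero, zero_smul, add_zero, neg_neg]
  have hnoX : NoFlag X := fun v a h => hno v a (h.mono hXM)
  have hdvd := dvd_card_of_rotation hF h2 hsym hdetB (fun g (hg : g ∈ X) => hg.2) (fun g (hg : g ∈ X) => hdetM g hg.1) hnoX hirr
    (X.mul_mem hX₂ hX₃) hf23.cross_ne_zero hTw hord
  obtain ⟨⟨g, hg⟩, hgo⟩ := exists_prime_orderOf_dvd_card' p hdvd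
  rw [Subgroup.orderOf_mk] at hgo
  refine ⟨B, fun h => hdetB (by rw [h]; simp), hsym, fun v a h => ?_⟩
  refine axis_polar hF h2 h3 hno hsym hdetB (fun W hW => hirr W fun g hg => hW g hg.1 hg.2) hg.1 hg.2
    (hgo ▸ pow_orderOf_eq_one g) (fun h1 => ?_) h
  rw [h1, orderOf_one] at hgo
  exact (Fact.out : p.Prime).one_lt.ne hgo

end CfsgLib.SLThree.Hessian
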