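import Cfsg.Agent.SLThree.Hessian.Model
import Cfsg.Agent.SLThree.Hessian.Triangle

/-!
# No further involution commutes with the central one

Such an involution is one of a two-parameter family on which the normaliser of the Heisenberg group and the
involutions themselves act; some member forms with two of the nine homologies a triangle of infinite type.
-/

set_option autoImplicit false
set_option linter.unusedSectionVars false

namespace CfsgLib.SLThree.Hessian

open Matrix Cfsg.Geo CfsgLib.MaxSub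

variable {F : Type*} [Field F] [Fintype F] {p : ℕ} [Fact p.Prime]

theorem natCast_inj_of_lt (hF : Fintype.card F = p) {a b : ℕ} (ha : a < p) (hb : b < p) (h : (a : F) = b) :
    a = b := by
  haveI : CharP F p := charP_of_card_eq_prime hF
  have := (CharP.natCast_eq_natCast F p).1 h
  rwa [Nat.ModEq, Nat.mod_eq_of_lt ha, Nat.mod_eq_of_lt hb] at this

/-- The squares of the traces which allow no triangle. -/
def Bad (s : F) : Prop := s ^ 2 = 1 ∨ s ^ 2 = 5 ∨ s ^ 2 = 9

theorem forty_nine (h2 : (2 : F) ≠ 0) (h5 : (5 : F) ≠ 0) {s : F} (h : 9 * s ^ 2 = 49) : ¬ Bad s := by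
  rintro (e | e | e) <;> rw [e] at h
  · exact mul_ne_zero (mul_ne_zero (mul_ne_zero h2 h2) h2) h5 (by linear_combination -h)
  · exact mul_ne_zero h2 h2 (by linear_combination -h)
  · exact mul_ne_zero (mul_ne_zero (mul_ne_zero h2 h2) h2) (mul_ne_zero h2 h2) (by linear_combination h)

section
variable (o : Omega F) (hF : Fintype.card F = p) (hp7 : 7 ≤ p)

include hF hp7

theorem cast_ne_zero_of_lt {n : ℕ} (h0 : 0 < n) (h : n < p) : (n : F) ≠ 0 := fun e => by
  have := natCast_inj_of_lt hF h (by omega) (e.trans Nat.cast_zero.symm)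
  omega

theorem two_ne : (2 : F) ≠ 0 := by simpa using cast_ne_zero_of_lt (F := F) hF hp7 (n := 2) (by norm_num) (by omega)

theorem five_ne : (5 : F) ≠ 0 := by simpa using cast_ne_zero_of_lt (F := F) hF hp7 (n := 5) (by norm_num) (by omega)

/-- The set of parameters is impossible. -/
theorem false_of_bad {S : F → F → F → Prop} (hne : ∃ A B C, S A B C)
    (hsq : ∀ A B C, S A B C → A ^ 2 + B ^ 2 + C ^ 2 = 3)
    (hflip0 : ∀ A B C, S A B C → S A (-B) (-C)) (hflip1 : ∀ A B C, S A B C → S (-A) B (-C))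
    (hneg : ∀ A B C, S A B C → S (-A) (-B) (-C))
    (hrefl : ∀ A B C A' B' C', S A B C → S A' B' C' → S (2 * (A * A' + B * B' + C * C') / 3 * A - A')
      (2 * (A * A' + B * B' + C * C') / 3 * B - B') (2 * (A * A' + B * B' + C * C') / 3 * C - C'))
    (hbad : ∀ A B C, S A B C → Bad (A + B + C)) : False := by
  have h2 := two_ne (F := F) hF hp7
  have h5 := five_ne (F := F) hF hp7
  have h3 : (3 : F) ≠ 0 := by simpa using cast_ne_zero_of_lt (F := F) hF hp7 (n := 3) (by norm_num) (by omega)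
  have hfour : ∀ A B C, S A B C → Bad (A + B + C) ∧ Bad (A + B - C) ∧ Bad (-A + B + C) ∧ Bad (A - B + C) := by
    intro A B C h
    refine ⟨hbad _ _ _ h, ?_, ?_, ?_⟩
    · have := hbad _ _ _ (hneg _ _ _ (hflip0 _ _ _ (hflip1 _ _ _ h))); simpa [sub_eq_add_neg] using this
    · have := hbad _ _ _ (hneg _ _ _ (hflip0 _ _ _ h)); simpa [sub_eq_add_neg] using this
    · have := hbad _ _ _ (hneg _ _ _ (hflip1 _ _ _ h)); simpa [sub_eq_add_neg] using this
  obtain ⟨A, B, C, hS⟩ := hne
  have hn := hsq _ _ _ hS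
  have hk : ∀ s : F, Bad s → ∃ k : ℕ, k ≤ 2 ∧ s ^ 2 = 1 + 4 * (k : F) := by
    rintro s (e | e | e)
    exacts [⟨0, by norm_num, by rw [e]; norm_num⟩, ⟨1, by norm_num, by rw [e]; norm_num⟩,
      ⟨2, le_refl _, by rw [e]; norm_num⟩]
  obtain ⟨b1, b2, b3, b4⟩ := hfour _ _ _ hS
  obtain ⟨k1, l1, e1⟩ := hk _ b1
  obtain ⟨k2, l2, e2⟩ := hk _ b2
  obtain ⟨k3, l3, e3⟩ := hk _ b3
  obtain ⟨k4, l4, e4⟩ := hk _ b4
  have h4 : (4 : F) ≠ 0 := by simpa using cast_ne_zero_of_lt (F := F) hF hp7 (n := 4) (by norm_num) (by omega)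
  have hsum : k1 + k2 + k3 + k4 = 2 := by
    have hsF : ((k1 + k2 + k3 + k4 : ℕ) : F) = ((2 : ℕ) : F) := by
      push_cast
      exact mul_left_cancel₀ h4 (by linear_combination 4 * hn - e1 - e2 - e3 - e4)
    rcases lt_or_ge (k1 + k2 + k3 + k4) p with h | h
    · exact natCast_inj_of_lt hF h (by omega) hsF
    · obtain ⟨m, hm⟩ := Nat.exists_eq_add_of_le h
      haveI : CharP F p := charP_of_card_eq_prime hF
      rw [hm, Nat.cast_add, CharP.cast_eq_zero, zero_add] at hsF
      have := natCast_inj_of_lt hF (by omega) (by omega) hsF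
      omega
  have hAB : 8 * (A * B) = 4 * ((k1 : F) + k2 - k3 - k4) := by linear_combination e1 + e2 - e3 - e4
  have hAC : 8 * (A * C) = 4 * ((k1 : F) + k4 - k2 - k3) := by linear_combination e1 + e4 - e2 - e3
  have hBC : 8 * (B * C) = 4 * ((k1 : F) + k3 - k2 - k4) := by linear_combination e1 + e3 - e2 - e4
  -- one product is a sign, the others are zero
  have hpair : ∀ A B C : F, A ^ 2 + B ^ 2 + C ^ 2 = 3 → (A * B = 1 ∨ A * B = -1) → A * C = 0 →
      ∀ X Y Z : F, X = 2 * (A * A + B * -B + C * -C) / 3 * A - A → Y = 2 * (A * A + B * -B + C * -C) / 3 * B - -B →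
      Z = 2 * (A * A + B * -B + C * -C) / 3 * C - -C →
      Bad (X + Y + Z) ∧ Bad (X - Y + Z) → False := by
    intro A B C hn hAB hAC X Y Z hX hY hZ hb
    have hA0 : A ≠ 0 := fun h => by rcases hAB with e | e <;> rw [h, zero_mul] at e <;> simp at e
    have hC0 : C = 0 := (mul_eq_zero.1 hAC).resolve_left hA0
    subst hC0
    have hn' : A ^ 2 + B ^ 2 = 3 := by linear_combination hn
    have hd : (A ^ 2 - B ^ 2) ^ 2 = 5 := by
      rcases hAB with e | e
      · linear_combination (A ^ 2 + B ^ 2 + 3) * hn' - 4 * (A * B + 1) * e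
      · linear_combination (A ^ 2 + B ^ 2 + 3) * hn' - 4 * (A * B - 1) * e
    have hZ0 : Z = 0 := by rw [hZ]; ring
    have hX' : 3 * X = (2 * (A ^ 2 - B ^ 2) - 3) * A := by rw [hX]; field_simp; ring
    have hY' : 3 * Y = (2 * (A ^ 2 - B ^ 2) + 3) * B := by rw [hY]; field_simp; ring
    subst hZ0
    rcases hAB with e | e
    · refine forty_nine h2 h5 ?_ hb.1
      linear_combination (3 * X + 3 * Y + (2 * (A ^ 2 - B ^ 2) - 3) * A + (2 * (A ^ 2 - B ^ 2) + 3) * B) * (hX' + hY') +
        (4 * (A ^ 2 - B ^ 2) ^ 2 + 9) * hn' +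
        (8 * (A ^ 2 - B ^ 2) ^ 2 - 18) * e + 8 * hd
    · refine forty_nine h2 h5 ?_ hb.2
      linear_combination (3 * X - 3 * Y + (2 * (A ^ 2 - B ^ 2) - 3) * A - (2 * (A ^ 2 - B ^ 2) + 3) * B) * (hX' - hY') +
        (4 * (A ^ 2 - B ^ 2) ^ 2 + 9) * hn' -
        (8 * (A ^ 2 - B ^ 2) ^ 2 - 18) * e + 8 * hd
  have hcases : (k1 = 1 ∧ k2 = 1 ∧ k3 = 0 ∧ k4 = 0) ∨ (k1 = 0 ∧ k2 = 0 ∧ k3 = 1 ∧ k4 = 1) ∨
      (k1 = 1 ∧ k4 = 1 ∧ k2 = 0 ∧ k3 = 0) ∨ (k1 = 0 ∧ k4 = 0 ∧ k2 = 1 ∧ k3 = 1) ∨
      (k1 = 1 ∧ k3 = 1 ∧ k2 = 0 ∧ k4 = 0) ∨ (k1 = 0 ∧ k3 = 0 ∧ k2 = 1 ∧ k4 = 1) ∨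
      (k1 = 2 ∧ k2 = 0 ∧ k3 = 0 ∧ k4 = 0) ∨ (k1 = 0 ∧ k2 = 2 ∧ k3 = 0 ∧ k4 = 0) ∨
      (k1 = 0 ∧ k2 = 0 ∧ k3 = 2 ∧ k4 = 0) ∨ (k1 = 0 ∧ k2 = 0 ∧ k3 = 0 ∧ k4 = 2) := by omega
  have h8 : (8 : F) ≠ 0 := by rw [show (8 : F) = 2 * 4 by norm_num]; exact mul_ne_zero h2 h4
  -- three signs
  have hthree : A * B * (A * B) = 1 → A * C * (A * C) = 1 → (A * B) * (A * C) * (B * C) = 1 → False := by
    intro hP hQ hPQ
    obtain ⟨c1, c2, c3, c4⟩ := hfour _ _ _ (hrefl _ _ _ _ _ _ hS (hflip0 _ _ _ hS))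
    have hA : A ^ 2 = 1 := by
      have : B * C * (B * C) = 1 := by
        linear_combination -(B * C) * (B * C) * (A * C * (A * C)) * hP - (B * C) * (B * C) * hQ +
          ((A * B) * (A * C) * (B * C) + 1) * hPQ
      linear_combination -A ^ 2 * this + hPQ
    have hB : B ^ 2 = 1 := by linear_combination hP - B ^ 2 * hA
    have hC : C ^ 2 = 1 := by linear_combination hQ - C ^ 2 * hA
    set X := 2 * (A * A + B * -B + C * -C) / 3 * A - A with hX
    set Y := 2 * (A * A + B * -B + C * -C) / 3 * B - -B with hY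
    set Z := 2 * (A * A + B * -B + C * -C) / 3 * C - -C with hZ
    have hX' : 3 * X = -5 * A := by rw [hX]; field_simp; linear_combination 2 * A * (hA - hB - hC)
    have hY' : 3 * Y = B := by rw [hY]; field_simp; linear_combination 2 * B * (hA - hB - hC)
    have hZ' : 3 * Z = C := by rw [hZ]; field_simp; linear_combination 2 * C * (hA - hB - hC)
    have hs : (A * B = 1 ∨ A * B = -1) ∧ (A * C = 1 ∨ A * C = -1) := ⟨mul_self_eq_one_iff.1 hP, mul_self_eq_one_iff.1 hQ⟩
    have hval : ∀ σ τ : F, σ * σ = 1 → τ * τ = 1 → A * B = -σ → A * C = -τ → Bad (X + σ * Y + τ * Z) → False := by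
      intro σ τ hσ hτ e1 e2 hb
      refine forty_nine h2 h5 ?_ hb
      have hB' : σ * B = -A := by linear_combination σ * A * e1 - σ * B * hA - A * hσ
      have hC' : τ * C = -A := by linear_combination τ * A * e2 - τ * C * hA - A * hτ
      have hlin : 3 * (X + σ * Y + τ * Z) = -7 * A := by
        linear_combination hX' + σ * hY' + τ * hZ' + hB' + hC'
      linear_combination (3 * (X + σ * Y + τ * Z) - 7 * A) * hlin + 49 * hA
    rcases hs with ⟨e | e, e' | e'⟩
    · exact hval (-1) (-1) (by ring) (by ring) (by rw [e]; ring) (by rw [e']; ring) (by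
        have := hbad _ _ _ (hneg _ _ _ (hflip0 _ _ _ (hneg _ _ _ (hrefl _ _ _ _ _ _ hS (hflip0 _ _ _ hS)))))
        have := hbad _ _ _ (hflip0 _ _ _ (hrefl _ _ _ _ _ _ hS (hflip0 _ _ _ hS)))
        rw [← hX, ← hY, ← hZ] at this
        simpa using this)
    · exact hval (-1) 1 (by ring) (by ring) (by rw [e]; ring) (by rw [e']) (by simpa [sub_eq_add_neg] using c4)
    · exact hval 1 (-1) (by ring) (by ring) (by rw [e]) (by rw [e']; ring) (by simpa [sub_eq_add_neg] using c2)
    · exact hval 1 1 (by ring) (by ring) (by rw [e]) (by rw [e']) (by simpa using c1)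
  -- two zeros
  have hpairAB : (A * B = 1 ∨ A * B = -1) → A * C = 0 → False := fun e e' =>
    let c := hfour _ _ _ (hrefl _ _ _ _ _ _ hS (hflip0 _ _ _ hS))
    hpair A B C hn e e' _ _ _ rfl rfl rfl ⟨c.1, c.2.2.2⟩
  have hpairAC : (A * C = 1 ∨ A * C = -1) → A * B = 0 → False := fun e e' => by
    obtain ⟨c1, c2, c3, c4⟩ := hfour _ _ _ (hrefl _ _ _ _ _ _ hS (hflip0 _ _ _ hS))
    refine hpair A C B (by linear_combination hn) e e' _ _ _ rfl rfl rfl ⟨?_, ?_⟩
    · convert c1 using 1; ring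
    · convert c2 using 1; ring
  have hpairBC : (B * C = 1 ∨ B * C = -1) → B * A = 0 → False := fun e e' => by
    obtain ⟨c1, c2, c3, c4⟩ := hfour _ _ _ (hrefl _ _ _ _ _ _ hS (hflip1 _ _ _ hS))
    refine hpair B C A (by linear_combination hn) e e' _ _ _ rfl rfl rfl ⟨?_, ?_⟩
    · convert c1 using 1; ring
    · convert c2 using 1; ring
  rcases hcases with ⟨r1, r2, r3, r4⟩ | ⟨r1, r2, r3, r4⟩ | ⟨r1, r2, r3, r4⟩ | ⟨r1, r2, r3, r4⟩ |
    ⟨r1, r2, r3, r4⟩ | ⟨r1, r2, r3, r4⟩ | ⟨r1, r2, r3, r4⟩ | ⟨r1, r2, r3, r4⟩ | ⟨r1, r2, r3, r4⟩ | ⟨r1, r2, r3, r4⟩ <;>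
    rw [r1, r2, r3, r4] at hAB hAC hBC <;> norm_num at hAB hAC hBC
  · exact hpairAB (Or.inl (mul_left_cancel₀ h8 (by linear_combination hAB)))
      (mul_left_cancel₀ h8 (by grind))
  · exact hpairAB (Or.inr (mul_left_cancel₀ h8 (by linear_combination hAB)))
      (mul_left_cancel₀ h8 (by grind))
  · exact hpairAC (Or.inl (mul_left_cancel₀ h8 (by linear_combination hAC)))
      (mul_left_cancel₀ h8 (by grind))
  · exact hpairAC (Or.inr (mul_left_cancel₀ h8 (by linear_combination hAC)))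
      (mul_left_cancel₀ h8 (by grind))
  · exact hpairBC (Or.inl (mul_left_cancel₀ h8 (by linear_combination hBC)))
      (mul_left_cancel₀ h8 (by grind))
  · exact hpairBC (Or.inr (mul_left_cancel₀ h8 (by linear_combination hBC)))
      (mul_left_cancel₀ h8 (by grind))
  all_goals
    have eP : A * B = 1 ∨ A * B = -1 := by
      first
        | exact Or.inl (mul_left_cancel₀ h8 (by linear_combination hAB))
        | exact Or.inr (mul_left_cancel₀ h8 (by linear_combination hAB))
    have eQ : A * C = 1 ∨ A * C = -1 := by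
      first
        | exact Or.inl (mul_left_cancel₀ h8 (by linear_combination hAC))
        | exact Or.inr (mul_left_cancel₀ h8 (by linear_combination hAC))
    refine hthree (mul_self_eq_one_iff.2 eP) (mul_self_eq_one_iff.2 eQ) (mul_left_cancel₀ (pow_ne_zero 3 h8) ?_)
    rw [show (8 : F) ^ 3 * (A * B * (A * C) * (B * C)) = (8 * (A * B)) * (8 * (A * C)) * (8 * (B * C)) by ring,
      hAB, hAC, hBC]
    norm_num

/-- **No further involution commutes with the central one.** -/
theorem false_of_commuting {M : Subgroup (GL (Fin 3) F)} (hno : NoFlag M)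
    (hdetM : ∀ g ∈ M, (g : Matrix (Fin 3) (Fin 3) F).det = 1) (hq : ∀ k, quat o k ∈ M) (hclock : clock o ∈ M)
    (hshift : shift F ∈ M) {r : GL (Fin 3) F} (hr : r ∈ M) (hr2 : r * r = 1) (hr1 : r ≠ 1) (hrz : r ≠ cent)
    (hcomm : cent * r = r * cent) : False := by
  have h2 := two_ne (F := F) hF hp7
  have h3 := o.three
  have h4 : (4 : F) ≠ 0 := by rw [show (4 : F) = 2 * 2 by norm_num]; exact mul_ne_zero h2 h2
  have hfour : four o ∈ M := by simpa [quat] using hq 0
  have hcent : (cent : GL (Fin 3) F) ∈ M := four_sq o ▸ M.mul_mem hfour hfour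
  set a : Fin 3 → F := ![0, 1, -1] with ha
  set fa : Fin 3 → F := ![0, 2⁻¹, -2⁻¹] with hfa
  have hza : Hom M a fa := by
    refine ⟨by simp [ha, hfa, dotProduct, Fin.sum_univ_three]; field_simp; ring, cent, hcent, ?_⟩
    show (!![-1, 0, 0; 0, 0, -1; 0, -1, 0] : Matrix (Fin 3) (Fin 3) F) = _
    ext i j; fin_cases i <;> fin_cases j <;> simp [homMat, ha, hfa, vecMulVec_apply] <;> field_simp <;> ring
  obtain ⟨e₃, f₃, hf3, g, hg, hge⟩ := exists_hom (M := Subgroup.zpowers r) h2 (Subgroup.mem_zpowers r)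
    (by rw [specialLinear, MonoidHom.mem_ker, Units.ext_iff, Matrix.GeneralLinearGroup.val_det_apply, Units.val_one]
        exact hdetM r hr) hr2 hr1
  have hgM : g ∈ M := (Subgroup.zpowers_le.2 hr) hg
  have hre : (r : Matrix (Fin 3) (Fin 3) F) = homMat e₃ f₃ := by
    have : g = 1 ∨ g = r := by
      obtain ⟨n, rfl⟩ := Subgroup.mem_zpowers_iff.1 hg
      rcases Int.even_or_odd n with ⟨m, rfl⟩ | ⟨m, rfl⟩
      · left; rw [← two_mul, _root_.zpow_mul, _root_.zpow_two, hr2, _root_.one_zpow]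
      · right; rw [_root_.zpow_add, _root_.zpow_mul, _root_.zpow_two, hr2, _root_.one_zpow, one_mul, _root_.zpow_one]
    rcases this with rfl | rfl
    · exfalso
      have := congrArg Matrix.trace hge
      rw [Units.val_one, trace_one, homMat, trace_add, trace_neg, trace_one, trace_smul, trace_vecMulVec,
        dotProduct_comm, hf3, Fintype.card_fin] at this
      exact h4 (by simp at this; linear_combination this)
    · exact hge
  have Hr : Hom M e₃ f₃ := ⟨hf3, r, hr, hre⟩
  set ra := (r : Matrix (Fin 3) (Fin 3) F) *ᵥ a with hra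
  have hfix : (cent : GL (Fin 3) F).1 *ᵥ ra = ra := by
    rw [hra, mulVec_mulVec, ← Units.val_mul, hcomm, Units.val_mul, ← mulVec_mulVec]
    congr 1
    show (!![-1, 0, 0; 0, 0, -1; 0, -1, 0] : Matrix (Fin 3) (Fin 3) F) *ᵥ a = a
    funext i; fin_cases i <;> simp [ha, mulVec, dotProduct, Fin.sum_univ_three]
  have hl : ra = ra 1 • a := by
    have e0 := congrFun hfix 0
    have e1 := congrFun hfix 1
    rw [show (cent : GL (Fin 3) F).1 = !![-1, 0, 0; 0, 0, -1; 0, -1, 0] from rfl] at e0 e1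
    simp [mulVec, dotProduct, Fin.sum_univ_three] at e0 e1
    funext i
    fin_cases i <;> simp [ha]
    · exact (mul_eq_zero.1 (show (2 : F) * ra 0 = 0 by linear_combination -e0)).resolve_left h2
    · linear_combination -e1
  have hrr : ra 1 * ra 1 = 1 := by
    have h : (r : Matrix (Fin 3) (Fin 3) F) *ᵥ ra = a := by
      rw [hra, mulVec_mulVec, ← Units.val_mul, hr2, Units.val_one, one_mulVec]
    rw [hl, mulVec_smul, ← hra, hl, smul_smul] at h
    have := congrFun h 1
    simpa [ha] using this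
  have hfa3 : f₃ ⬝ᵥ a = 0 ∧ ra 1 = -1 := by
    rcases mul_self_eq_one_iff.1 hrr with h | h
    · exfalso
      rw [h, one_smul, hra, hre, homMat_mulVec'] at hl
      have hs : (2 * (f₃ ⬝ᵥ a)) • e₃ = (2 : F) • a := by
        rw [two_smul]; linear_combination (norm := module) hl
      have he : (f₃ ⬝ᵥ a) • e₃ = a := smul_right_injective _ h2 (by simp only [smul_smul]; exact hs)
      have hs0 : f₃ ⬝ᵥ a ≠ 0 := fun h0 => hza.ne_left (by rw [← he, h0, zero_smul])
      have H' := Hr.smul hs0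
      rw [he] at H'
      have hf := hza.axis_unique h2 hno H'
      refine hrz (Units.ext ?_)
      rw [hre, ← homMat_smul (e := e₃) (f := f₃) hs0, he, ← hf]
      show _ = (!![-1, 0, 0; 0, 0, -1; 0, -1, 0] : Matrix (Fin 3) (Fin 3) F)
      ext i j; fin_cases i <;> fin_cases j <;> simp [homMat, ha, hfa, vecMulVec_apply] <;> field_simp <;> ring
    · refine ⟨?_, h⟩
      rw [h, neg_one_smul, hra, hre, homMat_mulVec'] at hl
      have : (2 * (f₃ ⬝ᵥ a)) • e₃ = 0 := by linear_combination (norm := module) hl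
      exact (mul_eq_zero.1 ((smul_eq_zero.1 this).resolve_right Hr.ne_left)).resolve_left h2
  obtain ⟨hf3a, hra1⟩ := hfa3
  have htr : (r : Matrix (Fin 3) (Fin 3) F).trace = -1 := by
    rw [hre, homMat, trace_add, trace_neg, trace_one, trace_smul, trace_vecMulVec, dotProduct_comm, hf3,
      Fintype.card_fin]
    simp
    ring
  obtain ⟨A, B, C, hn, hrf⟩ := exists_refl_eq o h2 (congrArg Units.val hcomm |> fun h => by simpa using h)
    (by rw [← Units.val_mul, hr2, Units.val_one]) htr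
    (by rw [← hra1, hra]; simp [ha, mulVec, dotProduct, Fin.sum_univ_three]; ring)
  let S : F → F → F → Prop := fun A B C => A ^ 2 + B ^ 2 + C ^ 2 = 3 ∧ MatIn M (refl o A B C)
  have hconj : ∀ (g : GL (Fin 3) F), g ∈ M → ∀ X Y : Matrix (Fin 3) (Fin 3) F, g.1 * X = Y * g.1 → MatIn M X →
      MatIn M Y := by
    rintro g hg X Y h ⟨x, hx, rfl⟩
    refine ⟨g * x * g⁻¹, M.mul_mem (M.mul_mem hg hx) (M.inv_mem hg), ?_⟩
    rw [Units.val_mul, Units.val_mul, h, mul_assoc, Units.mul_inv, mul_one]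
  refine false_of_bad hF hp7 (S := S) ⟨A, B, C, hn, r, hr, hrf⟩ (fun _ _ _ h => h.1) ?_ ?_ ?_ ?_ ?_
  · rintro A B C ⟨hn, h⟩
    exact ⟨by linear_combination hn, hconj _ hfour _ _ (four_refl o h2 A B C) h⟩
  · rintro A B C ⟨hn, h⟩
    refine ⟨by linear_combination hn, hconj _ (hq 1) _ _ ?_ h⟩
    have e1 : ((tw o)⁻¹ : GL (Fin 3) F).1 * refl o A B C = refl o B C A * ((tw o)⁻¹ : GL (Fin 3) F).1 := by
      have h' := congrArg (fun X => ((tw o)⁻¹ : GL (Fin 3) F).1 * X * ((tw o)⁻¹ : GL (Fin 3) F).1) (tw_refl o h2 B C A)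
      simp only [mul_assoc, Units.inv_mul_cancel_left, Units.mul_inv, mul_one] at h'
      exact h'.symm
    rw [quat, pow_one, Units.val_mul, Units.val_mul, mul_assoc ((tw o).1 * (four o).1), e1, ← mul_assoc,
      mul_assoc (tw o).1, four_refl o h2, ← mul_assoc, tw_refl o h2]
    simp only [mul_assoc]
  · rintro A B C ⟨hn, x, hx, hxe⟩
    exact ⟨by linear_combination hn, cent * x, M.mul_mem hcent hx, by rw [Units.val_mul, hxe, cent_refl o h2]⟩
  · rintro A B C A' B' C' ⟨hn, h⟩ ⟨hn', h'⟩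
    refine ⟨?_, ?_⟩
    · field_simp; linear_combination 4 * (A * A' + B * B' + C * C') ^ 2 * hn + 9 * hn'
    · rw [← refl_mul_refl_mul o h2 A B C A' B' C' hn]
      exact (h.mul h').mul h
  · rintro A B C ⟨hn, x, hx, hxe⟩
    by_contra hbad
    simp only [Bad, not_or] at hbad
    obtain ⟨hb1, hb5, hb9⟩ := hbad
    -- two of the nine homologies and the involution
    set a' : Fin 3 → F := ![0, o.w, -o.w ^ 2] with ha'
    set fa' : Fin 3 → F := ![0, o.w ^ 2 * 2⁻¹, -o.w * 2⁻¹] with hfa'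
    have hz' : Hom M a' fa' := by
      have := hza.conj hclock
      have hcube := o.cube
      convert this using 1
      · funext i; fin_cases i <;> simp [ha', ha, clock, mulVec, dotProduct, Fin.sum_univ_three]
      · funext i; fin_cases i <;> simp [hfa', hfa, clock, vecMul, dotProduct, Fin.sum_univ_three] <;> ring
    have hx2 : x * x = 1 := Units.ext (by
      rw [Units.val_mul, Units.val_one, hxe]
      have := o.cube; have := o.sum
      ext i j; fin_cases i <;> fin_cases j <;> simp [refl, Matrix.mul_apply, Fin.sum_univ_three] <;>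
        field_simp <;> grind)
    obtain ⟨ex, fx, hfx, gx, hgx, hgxe⟩ := exists_hom (M := Subgroup.zpowers x) h2 (Subgroup.mem_zpowers x)
      (by rw [specialLinear, MonoidHom.mem_ker, Units.ext_iff, Matrix.GeneralLinearGroup.val_det_apply, Units.val_one]
          exact hdetM x hx)
      hx2
      (fun h1 => by
        rw [h1, Units.val_one] at hxe
        have h11 := congrFun (congrFun hxe 1) 1
        have h12 := congrFun (congrFun hxe 1) 2
        simp [refl] at h11 h12
        exact h2 (by linear_combination h11 - h12))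
    have hxh : (x : Matrix (Fin 3) (Fin 3) F) = homMat ex fx := by
      obtain ⟨n, rfl⟩ := Subgroup.mem_zpowers_iff.1 hgx
      rcases Int.even_or_odd n with ⟨m, rfl⟩ | ⟨m, rfl⟩
      · exfalso
        rw [← two_mul, _root_.zpow_mul, _root_.zpow_two, hx2, _root_.one_zpow] at hgxe
        have := congrArg Matrix.trace hgxe
        rw [Units.val_one, trace_one, homMat, trace_add, trace_neg, trace_one, trace_smul, trace_vecMulVec,
          dotProduct_comm, hfx, Fintype.card_fin] at this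
        exact h4 (by simp at this; linear_combination this)
      · rwa [_root_.zpow_add, _root_.zpow_mul, _root_.zpow_two, hx2, _root_.one_zpow, one_mul, _root_.zpow_one] at hgxe
    have Hx : Hom M ex fx := ⟨hfx, x, hx, hxh⟩
    have hfxa : fx ⬝ᵥ a = 0 := by
      have hxa : (x : Matrix (Fin 3) (Fin 3) F) *ᵥ a = -a := by
        rw [hxe]; funext i; fin_cases i <;> simp [refl, ha, mulVec, dotProduct, Fin.sum_univ_three] <;> field_simp <;> ring
      rw [hxh, homMat_mulVec'] at hxa
      have : (2 * (fx ⬝ᵥ a)) • ex = 0 := by linear_combination (norm := module) hxa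
      exact (mul_eq_zero.1 ((smul_eq_zero.1 this).resolve_right Hx.ne_left)).resolve_left h2
    have hfae : fa ⬝ᵥ ex = 0 := Hx.dot_symm h2 hno hza hfxa
    have htrace := trace_conj_cent_refl o h2 A B C
    have hcz : (clock o * cent * (clock o)⁻¹ : GL (Fin 3) F).1 = homMat a' fa' := by
      have hcube := o.cube
      rw [Units.val_mul, Units.val_mul]
      show !![1, 0, 0; 0, o.w, 0; 0, 0, o.w ^ 2] * (!![-1, 0, 0; 0, 0, -1; 0, -1, 0] : Matrix (Fin 3) (Fin 3) F) *
        !![1, 0, 0; 0, o.w ^ 2, 0; 0, 0, o.w] = _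
      ext i j; fin_cases i <;> fin_cases j <;>
        simp [homMat, ha', hfa', vecMulVec_apply, Matrix.mul_apply, Fin.sum_univ_three] <;> field_simp <;> grind
    rw [hcz, ← hxe, hxh] at htrace
    set c := (fa' ⬝ᵥ ex) * (fx ⬝ᵥ a') with hc
    have hprod : (homMat a' fa' * homMat ex fx).trace = 4 * c - 1 := by
      simp only [homMat, add_mul, mul_add, neg_mul, mul_neg, one_mul, mul_one, neg_neg, smul_mul_assoc, mul_smul_comm,
        vecMulVec_mul_vecMulVec, trace_add, trace_neg, trace_one, trace_smul, trace_vecMulVec, smul_eq_mul,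
        vecMulVec_smul, dotProduct_smul, Fintype.card_fin]
      rw [dotProduct_comm a' fa', dotProduct_comm ex fx, hz'.1, hfx, dotProduct_comm a' fx, hc]
      push_cast
      ring
    rw [hprod] at htrace
    have hcv : 8 * c = 3 + (A + B + C) := by
      field_simp at htrace
      linear_combination htrace
    obtain ⟨Bm, hBm0, hBsym, hBm⟩ := axis_polar_of_triangle hF h2 h3 hno hdetM hza hz' Hx
      (by
        have hsum := o.sum
        simp [ha, hfa, ha', hfa', dotProduct, Fin.sum_univ_three]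
        field_simp
        grind)
      hfae hfxa (c := c) hc.symm (t := 4 * c - 2) rfl
      (fun h => hb9 (by rw [h, mul_zero] at hcv; linear_combination (-(A + B + C) + 3) * hcv))
      (fun h => hb9 (by linear_combination ((A + B + C) + 3) * (2 * h - hcv)))
      (fun h => hb1 (by linear_combination ((A + B + C) - 1) * (2 * h - hcv)))
      (fun h => hb1 (by linear_combination ((A + B + C) + 1) * (2 * h - hcv)))
      (fun h => hb5 (by
        linear_combination 4 * h + (-(8 * c) + 4 - (A + B + C + 3) + 2 + 0 * c) * hcv + (0 : F)))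
    -- all homologies preserve the form
    have hiso : ∀ {x f} (g : GL (Fin 3) F), Hom M x f → g.1 = homMat x f → g.1ᵀ * Bm * g.1 = Bm := by
      intro x f g h hg
      obtain ⟨μ, hμ⟩ := hBm x f h
      have hμ0 : μ ≠ 0 := fun h0 => h.ne_right (by rw [hμ, h0, zero_smul])
      rw [hg]
      exact homMat_iso hBsym h.1 (show Bm *ᵥ x = μ⁻¹ • f by rw [hμ, inv_smul_smul₀ hμ0])
    let O : Subgroup (GL (Fin 3) F) :=
      { carrier := {g | g.1ᵀ * Bm * g.1 = Bm}
        one_mem' := by simp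
        mul_mem' := fun {u v} hu hv => by
          simp only [Set.mem_setOf_eq] at hu hv ⊢
          rw [Units.val_mul, transpose_mul, show v.1ᵀ * u.1ᵀ * Bm * (u.1 * v.1) = v.1ᵀ * (u.1ᵀ * Bm * u.1) * v.1 by
            simp only [mul_assoc], hu, hv]
        inv_mem' := fun {u} hu => by
          simp only [Set.mem_setOf_eq] at hu ⊢
          conv_lhs => rw [← hu]
          rw [← mul_assoc, ← mul_assoc, ← transpose_mul, mul_assoc, Units.mul_inv, transpose_one, one_mul, mul_one] }
    have hzO : (cent : GL (Fin 3) F) ∈ O := hiso cent hza (by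
      show (!![-1, 0, 0; 0, 0, -1; 0, -1, 0] : Matrix (Fin 3) (Fin 3) F) = _
      ext i j; fin_cases i <;> fin_cases j <;> simp [homMat, ha, hfa, vecMulVec_apply] <;> field_simp <;> ring)
    have hgen : ∀ g : GL (Fin 3) F, g ∈ M → cent * g * cent = g⁻¹ → g ^ 3 = 1 → g ∈ O := by
      intro g hg hinv h3
      have h1 : g * cent * g⁻¹ ∈ O := by
        refine hiso _ (hza.conj hg) ?_
        rw [Units.val_mul, Units.val_mul, show (cent : GL (Fin 3) F).1 = homMat a fa by
          show (!![-1, 0, 0; 0, 0, -1; 0, -1, 0] : Matrix (Fin 3) (Fin 3) F) = _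
          ext i j; fin_cases i <;> fin_cases j <;> simp [homMat, ha, hfa, vecMulVec_apply] <;> field_simp <;> ring,
          homMat_conj]
      have := O.mul_mem hzO h1
      rwa [show cent * (g * cent * g⁻¹) = (cent * g * cent) * g⁻¹ by group, hinv,
        show g⁻¹ * g⁻¹ = g by rw [← _root_.mul_inv_rev, inv_eq_iff_mul_eq_one, ← pow_two, ← pow_succ, h3]] at this
    have hcube := o.cube
    have hD : clock o ∈ O := hgen _ hclock (by
        rw [eq_inv_iff_mul_eq_one]
        apply Units.ext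
        rw [Units.val_mul, Units.val_mul, Units.val_mul, Units.val_one]
        show (!![-1, 0, 0; 0, 0, -1; 0, -1, 0] : Matrix (Fin 3) (Fin 3) F) * !![1, 0, 0; 0, o.w, 0; 0, 0, o.w ^ 2] *
          !![-1, 0, 0; 0, 0, -1; 0, -1, 0] * !![1, 0, 0; 0, o.w, 0; 0, 0, o.w ^ 2] = 1
        ext i j; fin_cases i <;> fin_cases j <;> simp [Matrix.mul_apply, Fin.sum_univ_three] <;> grind)
      (by simpa using cube_mo o 1 0)
    have hP : shift F ∈ O := hgen _ hshift (by
        rw [eq_inv_iff_mul_eq_one]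
        apply Units.ext
        rw [Units.val_mul, Units.val_mul, Units.val_mul, Units.val_one]
        show (!![-1, 0, 0; 0, 0, -1; 0, -1, 0] : Matrix (Fin 3) (Fin 3) F) * !![0, 0, 1; 1, 0, 0; 0, 1, 0] *
          !![-1, 0, 0; 0, 0, -1; 0, -1, 0] * !![0, 0, 1; 1, 0, 0; 0, 1, 0] = 1
        ext i j; fin_cases i <;> fin_cases j <;> simp [Matrix.mul_apply, Fin.sum_univ_three])
      (by simpa using cube_mo o 0 1)
    have hw : (clock o * shift F * (clock o)⁻¹ * (shift F)⁻¹).1 = o.w • 1 := by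
      rw [Units.val_mul, Units.val_mul, Units.val_mul]
      show !![1, 0, 0; 0, o.w, 0; 0, 0, o.w ^ 2] * (!![0, 0, 1; 1, 0, 0; 0, 1, 0] : Matrix (Fin 3) (Fin 3) F) *
        !![1, 0, 0; 0, o.w ^ 2, 0; 0, 0, o.w] * !![0, 1, 0; 0, 0, 1; 1, 0, 0] = _
      ext i j; fin_cases i <;> fin_cases j <;> simp [Matrix.mul_apply, Fin.sum_univ_three] <;> grind
    have hscal : (clock o * shift F * (clock o)⁻¹ * (shift F)⁻¹).1ᵀ * Bm *
        (clock o * shift F * (clock o)⁻¹ * (shift F)⁻¹).1 = Bm :=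
      O.mul_mem (O.mul_mem (O.mul_mem hD hP) (O.inv_mem hD)) (O.inv_mem hP)
    rw [hw, transpose_smul, transpose_one, smul_mul_assoc, one_mul, smul_mul_assoc, mul_smul_comm, mul_one,
      smul_smul, ← pow_two] at hscal
    have hw2 : o.w ^ 2 - 1 ≠ 0 := fun h => o.ne_one (by linear_combination o.cube - o.w * h)
    exact hBm0 ((smul_eq_zero.1 (show (o.w ^ 2 - 1) • Bm = 0 by rw [sub_smul, one_smul, hscal, sub_self])).resolve_left hw2)

end

end CfsgLib.SLThree.Hessian
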